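import Mathlib

/-!
# A group with at most five conjugacy classes has order at most 1806
-/

set_option autoImplicit false
set_option maxRecDepth 100000
set_option linter.style.haveILetI false

namespace CfsgLib.Coprime.ClassLower

/-- the search over the non-decreasing denominators with `k` terms summing to `u / v` -/
def chk : ℕ → ℕ → ℕ → ℕ → ℕ → Bool
  | 0, _, _, _, _ => true
  | 1, u, v, _, M => u == 0 || !(v % u == 0) || decide (v / u ≤ M)
  | k + 2, u, v, lo, M => u == 0 ||
      (List.range ((k + 2) * v / u + 1)).all fun a => decide (a < lo) || decide (u * a < v) ||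
        chk (k + 1) (u * a - v) (v * a) a M

theorem chk_sound : ∀ (k u v lo M : ℕ) (l : List ℕ), chk k u v lo M = true → l.length = k → 0 < v →
    l.Pairwise (· ≤ ·) → (∀ a ∈ l, 1 ≤ a ∧ lo ≤ a) → (l.map fun a : ℕ => (1 : ℚ) / (a : ℚ)).sum = u / v →
    ∀ a ∈ l, a ≤ M := by
  intro k
  induction k with
  | zero =>
    intro u v lo M l _ hlen _ _ _ _ a ha
    rw [List.length_eq_zero_iff.1 hlen] at ha
    simp at ha
  | succ k ih =>
    intro u v lo M l hchk hlen hv hpw hlo hsum
    obtain ⟨x, l', rfl⟩ : ∃ x l', l = x :: l' := by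
      cases l with
      | nil => simp at hlen
      | cons x l' => exact ⟨x, l', rfl⟩
    have hlen' : l'.length = k := by simpa using hlen
    obtain ⟨hx1, hxlo⟩ := hlo x (List.mem_cons_self ..)
    have hxQ : (0 : ℚ) < x := by exact_mod_cast hx1
    have hvQ : (0 : ℚ) < v := by exact_mod_cast hv
    rw [List.map_cons, List.sum_cons] at hsum
    rw [List.pairwise_cons] at hpw
    have hnn : 0 ≤ (l'.map fun a : ℕ => (1 : ℚ) / (a : ℚ)).sum := List.sum_nonneg (by
      intro y hy
      obtain ⟨a, -, rfl⟩ := List.mem_map.1 hy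
      positivity)
    have hu : u ≠ 0 := by
      intro h
      rw [h, Nat.cast_zero, zero_div] at hsum
      have : (0 : ℚ) < 1 / x := by positivity
      linarith
    have hle : v ≤ u * x := by
      have h1 : (1 : ℚ) / x ≤ u / v := by linarith
      rw [div_le_div_iff₀ hxQ hvQ, one_mul] at h1
      exact_mod_cast h1
    cases k with
    | zero =>
      rw [List.length_eq_zero_iff.1 hlen'] at hsum
      intro a ha
      rw [List.length_eq_zero_iff.1 hlen', List.mem_singleton] at ha
      subst a
      simp only [List.map_nil, List.sum_nil, add_zero] at hsum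
      rw [div_eq_div_iff hxQ.ne' hvQ.ne', one_mul] at hsum
      have hvx : v = u * x := by exact_mod_cast hsum
      simp only [chk, Bool.or_eq_true, beq_iff_eq, Bool.not_eq_true', decide_eq_true_eq] at hchk
      rcases hchk with (h | h) | h
      · exact absurd h hu
      · exact absurd (by rw [hvx]; simp) (Bool.eq_false_iff.1 h)
      · rwa [hvx, Nat.mul_div_cancel_left _ (Nat.pos_of_ne_zero hu)] at h
    | succ k =>
      have hup : u * x ≤ (k + 2) * v := by
        have h2 : (l'.map fun a : ℕ => (1 : ℚ) / (a : ℚ)).sum ≤ ((k + 1 : ℕ) : ℚ) * (1 / x) := by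
          refine le_trans (List.sum_le_card_nsmul _ ((1 : ℚ) / x) ?_) (le_of_eq ?_)
          · intro y hy
            obtain ⟨a, ha, rfl⟩ := List.mem_map.1 hy
            exact one_div_le_one_div_of_le hxQ (by exact_mod_cast hpw.1 a ha)
          · rw [List.length_map, hlen', nsmul_eq_mul]
        have h3 : (u : ℚ) / v ≤ ((k + 2 : ℕ) : ℚ) / x := by
          rw [← hsum]
          push_cast at h2 ⊢
          rw [add_div]
          rw [mul_one_div] at h2
          have h4 : (k : ℚ) / x + 2 / x = ((k : ℚ) + 1) / x + 1 / x := by ring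
          linarith
        rw [div_le_div_iff₀ hvQ hxQ] at h3
        exact_mod_cast h3
      simp only [chk, Bool.or_eq_true, beq_iff_eq, List.all_eq_true, decide_eq_true_eq] at hchk
      rcases hchk with h | h
      · exact absurd h hu
      have hrange : x ∈ List.range ((k + 2) * v / u + 1) := by
        rw [List.mem_range, Nat.lt_succ_iff, Nat.le_div_iff_mul_le (Nat.pos_of_ne_zero hu)]
        linarith
      rcases h x hrange with (h | h) | h
      · omega
      · omega
      have hrest := ih (u * x - v) (v * x) x M l' h hlen' (Nat.mul_pos hv (by omega)) hpw.2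
        (fun a ha => ⟨(hlo a (List.mem_cons_of_mem _ ha)).1, hpw.1 a ha⟩) (by
          rw [Nat.cast_sub hle]
          push_cast
          have : (l'.map fun a : ℕ => (1 : ℚ) / (a : ℚ)).sum = u / v - 1 / x := by linarith
          rw [this, div_sub_div _ _ hvQ.ne' hxQ.ne', mul_one])
      intro a ha
      rcases List.mem_cons.1 ha with rfl | ha
      · obtain ⟨y, hy⟩ := List.exists_mem_of_length_pos (l := l') (by omega)
        exact (hpw.1 y hy).trans (hrest y hy)
      · exact hrest a ha

/-- the bounds -/
def landau (k : ℕ) : ℕ := [0, 1, 2, 6, 42, 1806].getD k 0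

theorem chk_landau : ∀ k < 6, chk k 1 1 1 (landau k) = true := by decide +kernel

theorem card_le_landau (G : Type*) [Group G] [Finite G] (hk : Nat.card (ConjClasses G) ≤ 5) :
    Nat.card G ≤ landau (Nat.card (ConjClasses G)) := by
  classical
  haveI := Fintype.ofFinite G
  haveI := Fintype.ofFinite (ConjClasses G)
  let c : ConjClasses G → ℕ := fun C => Nat.card G / Nat.card C.carrier
  have hpos : ∀ C : ConjClasses G, 0 < Nat.card C.carrier := fun C => by
    haveI : Nonempty C.carrier := by
      obtain ⟨g, rfl⟩ := ConjClasses.exists_rep C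
      exact ⟨⟨g, ConjClasses.mem_carrier_mk⟩⟩
    exact Nat.card_pos
  have hdvd : ∀ C : ConjClasses G, Nat.card C.carrier ∣ Nat.card G := fun C => by
    obtain ⟨g, rfl⟩ := ConjClasses.exists_rep C
    rw [← ConjAct.orbit_eq_carrier_conjClasses]
    exact ⟨Nat.card (MulAction.stabilizer (ConjAct G) g), by
      rw [← Nat.card_prod, ← Nat.card_congr (MulAction.orbitProdStabilizerEquivGroup (ConjAct G) g).symm]
      exact Nat.card_congr ConjAct.toConjAct.toEquiv⟩
  have hc : ∀ C, Nat.card C.carrier * c C = Nat.card G := fun C => Nat.mul_div_cancel' (hdvd C)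
  let M : Multiset ℕ := Finset.univ.val.map c
  let l := M.sort (· ≤ ·)
  have hlen : l.length = Nat.card (ConjClasses G) := by
    simp [l, M, Nat.card_eq_fintype_card]
  have hmem : ∀ a, a ∈ l ↔ ∃ C, c C = a := fun a => by simp [l, M]
  have hG : (0 : ℚ) < Nat.card G := by exact_mod_cast Nat.card_pos
  have hsum : (l.map fun a : ℕ => (1 : ℚ) / (a : ℚ)).sum = ((1 : ℕ) : ℚ) / ((1 : ℕ) : ℚ) := by
    have h1 : (l.map fun a : ℕ => (1 : ℚ) / (a : ℚ)).sum = (M.map fun a : ℕ => (1 : ℚ) / (a : ℚ)).sum := by
      conv_rhs => rw [← Multiset.sort_eq M (· ≤ ·)]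
      rw [Multiset.map_coe, Multiset.sum_coe]
    rw [h1, Multiset.map_map]
    show ∑ C, (1 : ℚ) / (c C : ℕ) = _
    have h2 : ∀ C, (1 : ℚ) / (c C : ℕ) = (Nat.card C.carrier : ℚ) / Nat.card G := fun C => by
      have h3 : (Nat.card C.carrier : ℚ) * (c C : ℚ) = Nat.card G := by exact_mod_cast hc C
      rw [← h3]
      have h4 : (Nat.card C.carrier : ℚ) ≠ 0 := by exact_mod_cast (hpos C).ne'
      rw [← div_div, div_self h4]
    rw [Finset.sum_congr rfl fun C _ => h2 C, ← Finset.sum_div, ← Nat.cast_sum]
    have h5 := Group.sum_card_conj_classes_eq_card G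
    rw [finsum_eq_sum_of_fintype] at h5
    rw [show ∑ C : ConjClasses G, Nat.card C.carrier = Nat.card G from by
      rw [← h5]
      exact Finset.sum_congr rfl fun C _ => Nat.card_coe_set_eq _]
    rw [Nat.cast_one, div_one, div_self hG.ne']
  have hsound := chk_sound _ 1 1 1 _ l (chk_landau _ (Nat.lt_succ_of_le hk)) hlen one_pos
    (Multiset.pairwise_sort M (· ≤ ·)) (fun a ha => by
      obtain ⟨C, rfl⟩ := (hmem a).1 ha
      have h1 : 1 ≤ c C := Nat.one_le_iff_ne_zero.2 fun h => by
        have h6 := hc C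
        rw [h, mul_zero] at h6
        exact (Nat.card_pos (α := G)).ne h6
      exact ⟨h1, h1⟩) hsum
  refine hsound _ ((hmem _).2 ⟨ConjClasses.mk 1, ?_⟩)
  have h1 : (ConjClasses.mk (1 : G)).carrier = {1} := by
    ext x
    rw [ConjClasses.mem_carrier_iff_mk_eq, ConjClasses.mk_eq_mk_iff_isConj, Set.mem_singleton_iff, isConj_one_left]
  show Nat.card G / Nat.card (ConjClasses.mk (1 : G)).carrier = Nat.card G
  rw [h1, Nat.card_coe_set_eq, Set.ncard_singleton, Nat.div_one]

end CfsgLib.Coprime.ClassLower
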