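import Cfsg.Agent.Lib.Coprime.ClassMod.Arith
import Cfsg.Agent.Lib.Coprime.ClassLower.Egypt

/-!
# The arithmetic of the class number bound
-/

set_option autoImplicit false
set_option maxRecDepth 100000
set_option synthInstance.maxSize 4096
set_option synthInstance.maxHeartbeats 400000

namespace CfsgLib.Coprime.ClassLower

open CfsgLib.Char CfsgLib.Coprime.ClassMod

/-- the bound for solvable groups of isometries of a `2m`-dimensional space over `GF(q)` -/
def SB (q m : ℕ) : ℕ :=
  if q = 2 ∧ m = 1 then 6 else if q = 2 ∧ m = 2 then 72 else if q = 2 ∧ m = 3 then 1296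
  else if q = 3 ∧ m = 1 then 24 else q ^ (m * (2 * m + 1))

/-- the index bound for a group of symplectic type of width `e` -/
noncomputable def W (e : ℕ) : ℕ := e ^ 2 * ∏ q ∈ e.primeFactors, SB q (e.factorization q)

/-- `W`, computably -/
def WC (e : ℕ) : ℕ := e ^ 2 * ((primeDivs e).map fun q => SB q (expIn q e)).prod

theorem WC_eq {e : ℕ} (he0 : e ≠ 0) (he : e < 256) : WC e = W e := by
  unfold WC W
  congr 1
  rw [← primeDivs_toFinset he0 he, List.prod_toFinset _ (show (primeDivs e).Nodup from smallPrimes_nodup.filter _)]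
  refine congrArg List.prod (List.map_congr_left fun q hq => ?_)
  have hmem : q ∈ smallPrimes := (List.mem_filter.1 hq).1
  have hq' : q.Prime := by
    have h : q < 256 := (show ∀ q ∈ smallPrimes, q < 256 by decide +kernel) q hmem
    exact (prime_iff_mem_smallPrimes h).2 hmem
  rw [expIn_eq hq' he0 he]

theorem W_one : W 1 = 1 := by rw [← WC_eq one_ne_zero (by norm_num)]; decide +kernel

theorem W_two : W 2 = 24 := by rw [← WC_eq (by norm_num) (by norm_num)]; decide +kernel

theorem W_three : W 3 = 216 := by rw [← WC_eq (by norm_num) (by norm_num)]; decide +kernel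

theorem W_four : W 4 = 1152 := by rw [← WC_eq (by norm_num) (by norm_num)]; decide +kernel

theorem SB_le (q m : ℕ) : SB q m ≤ q ^ (m * (2 * m + 1)) := by
  unfold SB
  split_ifs with h1 h2 h3 h4
  · obtain ⟨rfl, rfl⟩ := h1; norm_num
  · obtain ⟨rfl, rfl⟩ := h2; norm_num
  · obtain ⟨rfl, rfl⟩ := h3; norm_num
  · obtain ⟨rfl, rfl⟩ := h4; norm_num
  · exact le_rfl

theorem big_W {e : ℕ} (he : 64 ≤ e) : W e * 121 ≤ 5 * 11 ^ e := by
  set L := Nat.log 2 e
  have h6 : 6 ≤ L := Nat.le_log_of_pow_le (by norm_num) (by simpa using he)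
  have he0 : e ≠ 0 := by omega
  have hW : W e ≤ e ^ (2 * L + 3) := by
    unfold W
    rw [show 2 * L + 3 = 2 + (2 * L + 1) by ring, pow_add]
    refine Nat.mul_le_mul_left _ ?_
    conv_rhs => rw [← Nat.factorization_prod_pow_eq_self he0]
    rw [Nat.prod_factorization_eq_prod_primeFactors, ← Finset.prod_pow]
    refine Finset.prod_le_prod' fun q hq => ?_
    rw [← pow_mul]
    have hp := Nat.prime_of_mem_primeFactors hq
    refine (SB_le q _).trans (Nat.pow_le_pow_right hp.pos (Nat.mul_le_mul_left _ ?_))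
    have : e.factorization q ≤ L := Nat.le_log_of_pow_le (by norm_num) ((Nat.pow_le_pow_left hp.two_le _).trans
      (Nat.le_of_dvd (by omega) (Nat.ordProj_dvd e q)))
    omega
  have h1 : e ≤ 2 ^ (L + 1) := (Nat.lt_pow_succ_log_self (by norm_num) e).le
  have h2 : 2 ^ L ≤ e := Nat.pow_log_le_self 2 (by omega)
  have h3 : (L + 1) * (2 * L + 3) ≤ 3 * (e - 2) := by
    have hb := big_L L h6
    have h4 : 3 * 2 ^ L ≤ 3 * e := Nat.mul_le_mul_left 3 h2
    obtain ⟨j, hj⟩ := Nat.exists_eq_add_of_le h6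
    have h5 : (L + 1) * (2 * L + 3) + 6 ≤ 2 * (L + 1) * (2 * L + 1) + 3 := by
      rw [hj]; nlinarith
    omega
  calc W e * 121 ≤ (2 ^ (L + 1)) ^ (2 * L + 3) * 121 :=
        Nat.mul_le_mul_right _ (hW.trans (Nat.pow_le_pow_left h1 _))
    _ ≤ 2 ^ (3 * (e - 2)) * 121 := by
        rw [← pow_mul]
        exact Nat.mul_le_mul_right _ (Nat.pow_le_pow_right (by norm_num) h3)
    _ ≤ 11 ^ (e - 2) * 11 ^ 2 := by
        rw [pow_mul]
        exact Nat.mul_le_mul (Nat.pow_le_pow_left (by norm_num) _) (by norm_num)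
    _ = 11 ^ e := by rw [← pow_add]; congr 1; omega
    _ ≤ 5 * 11 ^ e := Nat.le_mul_of_pos_left _ (by norm_num)

theorem W_table : ∀ e < 64, e ≤ 1 ∨ e ∈ [2, 3, 4] ∨ WC e * 121 ≤ 5 * 11 ^ e := by decide +kernel

theorem W_le {e : ℕ} (he : 5 ≤ e) : W e * 121 ≤ 5 * 11 ^ e := by
  rcases lt_or_ge e 64 with h | h
  · rcases W_table e h with h1 | h1 | h1
    · omega
    · simp at h1; omega
    · rwa [← WC_eq (by omega) (by omega)]
  · exact big_W h

theorem sq_le_eleven : ∀ s, 2 ≤ s → s ^ 2 ≤ 4 * 11 ^ (s - 2) := by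
  intro s hs
  induction s, hs using Nat.le_induction with
  | base => norm_num
  | succ s hs ih =>
    rw [show s + 1 - 2 = (s - 2) + 1 by omega, pow_succ 11 (s - 2)]
    calc (s + 1) ^ 2 ≤ s ^ 2 * 4 := by nlinarith
      _ ≤ 4 * 11 ^ (s - 2) * 11 := Nat.mul_le_mul ih (by norm_num)
      _ = 4 * (11 ^ (s - 2) * 11) := by ring

/-- the bound for one block at the smallest prime -/
theorem base_eleven {r s e : ℕ} (hr : 2 ≤ r) (hs : 1 ≤ s) (he : 1 ≤ e) (hse : s * e ≤ r)
    (hexc : ¬(s = 1 ∧ r = e ∧ e ≤ 4)) : s ^ 2 * W e * 121 ≤ 5 * 11 ^ r := by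
  have h11 : ∀ a b, a ≤ b → 11 ^ a ≤ (11 : ℕ) ^ b := fun a b h => Nat.pow_le_pow_right (by norm_num) h
  rcases eq_or_lt_of_le he with he1 | he2
  · subst he1
    rw [W_one, mul_one]
    rw [mul_one] at hse
    rcases eq_or_lt_of_le hs with hs1 | hs2
    · subst hs1
      have := h11 2 r hr
      norm_num at this ⊢
      omega
    · refine le_trans (Nat.mul_le_mul_right _ (sq_le_eleven s hs2)) (le_trans ?_ (Nat.mul_le_mul_left 5 (h11 s r hse)))
      have : (11 : ℕ) ^ s = 11 ^ (s - 2) * 121 := by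
        rw [show (121 : ℕ) = 11 ^ 2 by norm_num, ← pow_add]; congr 1; omega
      rw [this]
      have := Nat.zero_le (11 ^ (s - 2) * 121)
      linarith
  · rcases le_or_gt 5 e with he5 | he4
    · rcases eq_or_lt_of_le hs with hs1 | hs2
      · subst hs1
        rw [one_pow, one_mul]
        exact (W_le he5).trans (Nat.mul_le_mul_left 5 (h11 e r (by simpa using hse)))
      · rw [mul_assoc]
        refine le_trans (Nat.mul_le_mul (sq_le_eleven s hs2) (W_le he5)) (le_trans ?_ (Nat.mul_le_mul_left 5 (h11 _ r hse)))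
        have h1 : 4 * 11 ^ (s - 2) ≤ 11 ^ (e * (s - 1)) := by
          refine le_trans (le_trans (Nat.mul_le_mul_right _ (by norm_num : 4 ≤ 11)) (le_of_eq (pow_succ' 11 (s - 2)).symm))
            (h11 _ _ ?_)
          rw [show s - 2 + 1 = s - 1 by omega]
          exact Nat.le_mul_of_pos_left _ (by omega)
        calc 4 * 11 ^ (s - 2) * (5 * 11 ^ e) ≤ 11 ^ (e * (s - 1)) * (5 * 11 ^ e) := Nat.mul_le_mul_right _ h1
          _ = 5 * 11 ^ (s * e) := by
            rw [mul_left_comm, ← pow_add]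
            congr 2
            obtain ⟨j, rfl⟩ : ∃ j, s = j + 1 := ⟨s - 1, by omega⟩
            rw [Nat.add_sub_cancel]; ring
    · have hW : W e ≤ 1152 ∧ (e = 2 → W e = 24) ∧ (e = 3 → W e = 216) := by
        interval_cases e <;> simp [W_two, W_three, W_four]
      rcases eq_or_lt_of_le hs with hs1 | hs2
      · subst hs1
        rw [one_mul] at hse
        have hre : e + 1 ≤ r := by
          rcases eq_or_lt_of_le hse with h | h
          · exact absurd ⟨rfl, h.symm, by omega⟩ hexc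
          · exact h
        rw [one_pow, one_mul]
        refine le_trans ?_ (Nat.mul_le_mul_left 5 (h11 _ r hre))
        interval_cases e <;> simp [W_two, W_three, W_four]
      · refine le_trans ?_ (Nat.mul_le_mul_left 5 (h11 _ r hse))
        refine le_trans (Nat.mul_le_mul_right _ (Nat.mul_le_mul_right _ (sq_le_eleven s hs2))) ?_
        have h1 : 4 * W e * 121 ≤ 5 * 11 ^ (2 * e) := by
          interval_cases e <;> simp [W_two, W_three, W_four]
        calc 4 * 11 ^ (s - 2) * W e * 121 = 11 ^ (s - 2) * (4 * W e * 121) := by ring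
          _ ≤ 11 ^ ((s - 2) * e) * (5 * 11 ^ (2 * e)) :=
            Nat.mul_le_mul (h11 _ _ (Nat.le_mul_of_pos_right _ (by omega))) h1
          _ = 5 * 11 ^ (s * e) := by
            rw [mul_left_comm, ← pow_add]
            congr 2
            obtain ⟨j, rfl⟩ : ∃ j, s = j + 2 := ⟨s - 2, by omega⟩
            rw [Nat.add_sub_cancel]; ring

/-- the bound for the permutation part -/
def pf (t : ℕ) : ℕ := min t.factorial (3 ^ (t - 1))

theorem pf_sq_le (t : ℕ) : pf t ^ 2 ≤ 9 ^ (t - 1) := by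
  rw [show (9 : ℕ) = 3 ^ 2 by norm_num, ← pow_mul, mul_comm 2, pow_mul]
  exact Nat.pow_le_pow_left (min_le_right _ _) 2

/-- one block condition gives all numbers of blocks -/
theorem many_blocks {p r C : ℕ} {t0 : ℕ} (h0 : 1 ≤ t0) (hA : 9 * C ≤ p ^ r)
    (hB : p ^ 2 * (9 ^ (t0 - 1) * C ^ t0) ≤ 5 * p ^ (t0 * r)) :
    ∀ t, t0 ≤ t → p ^ 2 * (pf t ^ 2 * C ^ t) ≤ 5 * p ^ (t * r) := by
  have key : ∀ t, t0 ≤ t → p ^ 2 * (9 ^ (t - 1) * C ^ t) ≤ 5 * p ^ (t * r) := by
    intro t ht
    induction t, ht using Nat.le_induction with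
    | base => exact hB
    | succ t ht ih =>
      obtain ⟨j, rfl⟩ : ∃ j, t = j + 1 := ⟨t - 1, by omega⟩
      rw [Nat.add_sub_cancel] at ih ⊢
      calc p ^ 2 * (9 ^ (j + 1) * C ^ (j + 1 + 1)) = p ^ 2 * (9 ^ j * C ^ (j + 1)) * (9 * C) := by ring
        _ ≤ 5 * p ^ ((j + 1) * r) * p ^ r := Nat.mul_le_mul ih hA
        _ = 5 * p ^ ((j + 1 + 1) * r) := by rw [mul_assoc, ← pow_add]; congr 2; ring
  exact fun t ht => (Nat.mul_le_mul_left _ (Nat.mul_le_mul_right _ (pf_sq_le t))).trans (key t ht)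

theorem core_of_big {p n k o u R x : ℕ} (hp : 11 ≤ p) (hn : 2 ≤ n) (hx : x ≤ k * u) (huR : 1 ≤ u)
    (hcount : p ^ n - 1 ≤ o * x * R) (hbig : p ^ 2 * (u * R) ≤ 5 * p ^ n) : 49 * p ≤ 60 * (k + o) := by
  have hR : 0 < u * R := by
    refine Nat.mul_pos huR (Nat.pos_of_ne_zero fun h => ?_)
    rw [h, mul_zero] at hcount
    have := Nat.one_lt_pow (by omega : n ≠ 0) (by omega : 1 < p)
    omega
  have hpn : 121 ≤ p ^ n := le_trans (by nlinarith) (Nat.pow_le_pow_right (by omega) hn)
  obtain ⟨N, hN⟩ := Nat.exists_eq_add_of_le (show 1 ≤ p ^ n by omega)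
  rw [hN, Nat.add_sub_cancel_left] at hcount
  rw [hN] at hbig hpn
  have h1 : 4 * (x * (o * u)) ≤ (x + o * u) ^ 2 := by rw [← mul_assoc]; exact four_mul_le_pow_two_add _ _
  have h2 : (x + o * u) ^ 2 ≤ ((k + o) * u) ^ 2 := Nat.pow_le_pow_left (by linarith) 2
  have h3 : 4 * N ≤ (k + o) ^ 2 * (u * R) := by
    refine Nat.le_of_mul_le_mul_left ?_ huR
    calc u * (4 * N) ≤ u * (4 * (o * x * R)) := Nat.mul_le_mul_left _ (Nat.mul_le_mul_left _ hcount)
      _ = R * (4 * (x * (o * u))) := by ring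
      _ ≤ R * ((k + o) * u) ^ 2 := Nat.mul_le_mul_left _ (h1.trans h2)
      _ = u * ((k + o) ^ 2 * (u * R)) := by ring
  have h4 : (49 * p) ^ 2 * (u * R) ≤ (60 * (k + o)) ^ 2 * (u * R) := by nlinarith
  exact (Nat.pow_le_pow_iff_left (show (2 : ℕ) ≠ 0 by norm_num)).1 (Nat.le_of_mul_le_mul_right h4 hR)

/-- the finitely many exceptions -/
def finList : List (ℕ × ℕ × ℕ) :=
  [(2, 11, 2), (2, 11, 3), (2, 11, 4), (2, 11, 5), (2, 11, 6), (2, 11, 7), (2, 11, 8), (2, 13, 2), (2, 13, 3),
   (2, 13, 4), (2, 13, 5), (2, 13, 6), (2, 13, 7), (2, 13, 8), (2, 13, 9), (2, 13, 10), (2, 17, 2), (2, 17, 3),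
   (2, 17, 4), (2, 17, 5), (2, 17, 6), (2, 19, 2), (3, 13, 1), (3, 13, 2), (3, 13, 3), (3, 13, 4), (3, 13, 5),
   (3, 13, 6), (3, 13, 7), (3, 13, 8), (3, 13, 9), (3, 13, 10), (3, 19, 1), (3, 31, 1), (3, 37, 1), (3, 43, 1),
   (4, 11, 1), (4, 13, 1)]

/-- the required sum -/
def need (p : ℕ) : ℕ := (49 * p + 59) / 60

/-- `W` at the exceptions -/
def wexc (r : ℕ) : ℕ := if r = 2 then 24 else if r = 3 then 216 else 1152

/-- at most five classes in the quotient: no enumeration needed -/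
def loOK (r p t : ℕ) : Bool := decide ((need p - 1) ^ 2 * (pf t * 1806) < 4 * (p ^ (r * t) - 1))

/-- at least six classes in the quotient: no enumeration needed -/
def hiOK (r p t : ℕ) : Bool :=
  decide (need p ≤ t + 6) || decide ((need p - 6) ^ 2 * (pf t * (pf t * wexc r ^ t)) < 4 * (p ^ (r * t) - 1))

/-- the enumeration -/
def enumOK (r p t kb w : ℕ) : Bool :=
  (List.range (pf t * need p)).all fun i =>
    decide (need p ≤ (i + pf t) / pf t + (kb - 1) +
      max t ((p ^ (r * t) - 1 + (i + 1) * w - 1) / ((i + 1) * w)))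

/-- the complete check -/
def finOK (r p t : ℕ) : Bool :=
  (loOK r p t || ([1, 2, 3, 4, 5].all fun kb => enumOK r p t kb (min (pf t * wexc r ^ t) (landau kb)))) &&
  (hiOK r p t || enumOK r p t 6 (pf t * wexc r ^ t))

theorem fin_table : finList.all (fun z => finOK z.1 z.2.1 z.2.2) = true := by decide +kernel

theorem fin_core {r p t k kb o x u wb : ℕ} (hmem : (r, p, t) ∈ finList) (hx : 1 ≤ x) (hkb : 1 ≤ kb)
    (hk : x + (kb - 1) * u ≤ k * u) (hu : u ≤ pf t) (hu1 : 1 ≤ u) (hwb : wb ≤ pf t * wexc r ^ t)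
    (hL : kb ≤ 5 → wb ≤ landau kb) (ho : t ≤ o) (hcount : p ^ (r * t) - 1 ≤ o * x * wb) :
    49 * p ≤ 60 * (k + o) := by
  suffices h : need p ≤ k + o by unfold need at h; omega
  have hpf : 1 ≤ pf t := hu1.trans hu
  have hkk : kb - 1 < k := by
    by_contra h
    have := Nat.mul_le_mul_right u (not_lt.1 h)
    omega
  have hk' : x + (kb - 1) * pf t ≤ k * pf t := by
    obtain ⟨d, hd⟩ := Nat.exists_eq_add_of_le hu
    have h1 : (kb - 1) * d ≤ k * d := Nat.mul_le_mul_right d hkk.le
    rw [hd, mul_add, mul_add]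
    omega
  have hok := (List.all_eq_true.1 fin_table) (r, p, t) hmem
  simp only [finOK, Bool.and_eq_true, Bool.or_eq_true] at hok
  -- the enumeration
  have henum : ∀ K w, enumOK r p t K w = true → 1 ≤ K → K ≤ kb → wb ≤ w → need p ≤ k + o := by
    intro K w hen hK1 hK hw
    have hkK : x + (K - 1) * pf t ≤ k * pf t := by
      have := Nat.mul_le_mul_right (pf t) (Nat.sub_le_sub_right hK 1)
      omega
    by_cases hbig : pf t * need p ≤ x
    · have h1 : pf t * need p ≤ k * pf t := by omega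
      rw [mul_comm k] at h1
      have := Nat.le_of_mul_le_mul_left h1 hpf
      omega
    · simp only [enumOK, List.all_eq_true, List.mem_range, decide_eq_true_eq] at hen
      have h := hen (x - 1) (by omega)
      rw [show x - 1 + 1 = x by omega] at h
      have h1 : (x - 1 + pf t) / pf t + (K - 1) ≤ k := by
        rw [← Nat.add_mul_div_right _ _ hpf]
        refine Nat.le_of_lt_succ (Nat.div_lt_of_lt_mul ?_)
        rw [Nat.mul_succ, mul_comm (pf t) k]
        omega
      have h2 : (p ^ (r * t) - 1 + x * w - 1) / (x * w) ≤ o := by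
        rcases Nat.eq_zero_or_pos (x * w) with h0 | h0
        · rw [h0, Nat.div_zero]; exact Nat.zero_le _
        refine Nat.le_of_lt_succ (Nat.div_lt_of_lt_mul ?_)
        have h3 : o * x * wb ≤ (x * w) * o := by
          rw [mul_comm (x * w), mul_assoc]
          exact Nat.mul_le_mul_left _ (Nat.mul_le_mul_left _ hw)
        rw [Nat.mul_succ]
        omega
      omega
  -- the two analytic bounds
  have hsq : ∀ j R, wb ≤ R → (need p - (j + 1)) ^ 2 * (pf t * R) < 4 * (p ^ (r * t) - 1) →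
      (j * pf t + x ≤ k * pf t) → need p ≤ k + o := by
    intro j R hR hlt hjx
    by_contra hlt'
    obtain ⟨k', hk'eq⟩ := Nat.exists_eq_add_of_le (show j ≤ k from
      Nat.le_of_mul_le_mul_right (by omega : j * pf t ≤ k * pf t) hpf)
    have hx' : x ≤ k' * pf t := by rw [hk'eq, add_mul] at hjx; omega
    have hko : k' + o ≤ need p - (j + 1) := by omega
    have h1 : 4 * (p ^ (r * t) - 1) ≤ (k' + o) ^ 2 * (pf t * R) := by
      refine Nat.le_of_mul_le_mul_left ?_ hpf
      have hsq1 : 4 * (x * (o * pf t)) ≤ ((k' + o) * pf t) ^ 2 := by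
        have h4 : 4 * (x * (o * pf t)) ≤ (x + o * pf t) ^ 2 := by
          rw [← mul_assoc]; exact four_mul_le_pow_two_add _ _
        exact h4.trans (Nat.pow_le_pow_left (by linarith) 2)
      calc pf t * (4 * (p ^ (r * t) - 1)) ≤ pf t * (4 * (o * x * R)) :=
            Nat.mul_le_mul_left _ (Nat.mul_le_mul_left _ (hcount.trans (Nat.mul_le_mul_left _ hR)))
        _ = R * (4 * (x * (o * pf t))) := by ring
        _ ≤ R * ((k' + o) * pf t) ^ 2 := Nat.mul_le_mul_left _ hsq1
        _ = pf t * ((k' + o) ^ 2 * (pf t * R)) := by ring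
    have := Nat.mul_le_mul_right (pf t * R) (Nat.pow_le_pow_left hko 2)
    omega
  rcases le_or_gt kb 5 with h5 | h6
  · rcases hok.1 with h | h
    · simp only [loOK, decide_eq_true_eq] at h
      exact hsq 0 1806 ((hL h5).trans (by interval_cases kb <;> decide)) (by simpa using h) (by omega)
    · simp only [List.all_eq_true] at h
      exact henum kb _ (h kb (by simp; omega)) hkb le_rfl (le_min hwb (hL h5))
  · have h6' : x + 5 * pf t ≤ k * pf t := by
      have := Nat.mul_le_mul_right (pf t) (show 5 ≤ kb - 1 by omega)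
      omega
    rcases hok.2 with h | h
    · simp only [hiOK, Bool.or_eq_true, decide_eq_true_eq] at h
      rcases h with h | h
      · have : 5 < k := by
          by_contra hc
          have := Nat.mul_le_mul_right (pf t) (not_lt.1 hc)
          omega
        omega
      · exact hsq 5 (pf t * wexc r ^ t) hwb (by simpa using h) (by omega)
    · exact henum 6 _ h (by norm_num) h6 hwb

/-- two to four dimensional blocks of full width -/
theorem exc_cases {r p t : ℕ} (hp : p.Prime) (hp11 : 11 ≤ p) (hr : r = 2 ∨ r = 3 ∨ r = 4) (ht : 1 ≤ t)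
    (h21 : r = 2 → 2 ≤ t) (h3 : r = 3 → 3 ∣ p - 1) :
    (r, p, t) ∈ finList ∨ 49 * p ≤ 60 * (t + 1) ∨ p ^ 2 * (pf t ^ 2 * wexc r ^ t) ≤ 5 * p ^ (t * r) := by
  have hnp : p ≠ 12 ∧ p ≠ 14 ∧ p ≠ 15 ∧ p ≠ 16 ∧ p ≠ 18 ∧ p ≠ 20 ∧ p ≠ 21 ∧ p ≠ 22 := by
    refine ⟨?_, ?_, ?_, ?_, ?_, ?_, ?_, ?_⟩ <;> rintro rfl <;> norm_num at hp
  have hmon : ∀ a : ℕ, a ≤ p → ∀ b, a ^ b ≤ p ^ b := fun a h b => Nat.pow_le_pow_left h b
  rcases hr with rfl | rfl | rfl
  · rcases le_or_gt 23 p with h | h
    · refine Or.inr (Or.inr ?_)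
      rcases eq_or_lt_of_le (h21 rfl) with h2 | h3'
      · subst h2
        have := hmon 23 h 2
        rw [show pf 2 = 2 by rfl, show wexc 2 = 24 by rfl, show (2 : ℕ) * 2 = 2 + 2 by rfl, pow_add p 2 2]
        nlinarith
      · refine many_blocks (t0 := 3) (by norm_num) ?_ ?_ t h3'
        · have := hmon 23 h 2
          rw [show wexc 2 = 24 by rfl]
          omega
        · have := hmon 23 h 4
          rw [show wexc 2 = 24 by rfl, show 3 * 2 = 2 + 4 by rfl, pow_add]
          rw [mul_left_comm 5]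
          exact Nat.mul_le_mul_left _ (le_trans (by norm_num) (Nat.mul_le_mul_left 5 this))
    · have h' : p = 11 ∨ p = 13 ∨ p = 17 ∨ p = 19 := by omega
      have ht2 := h21 rfl
      rcases h' with rfl | rfl | rfl | rfl
      · rcases le_or_gt t 8 with h | h
        · exact Or.inl (by interval_cases t <;> decide)
        · exact Or.inr (Or.inl (by omega))
      · rcases le_or_gt t 10 with h | h
        · exact Or.inl (by interval_cases t <;> decide)
        · exact Or.inr (Or.inl (by omega))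
      · rcases le_or_gt t 6 with h | h
        · exact Or.inl (by interval_cases t <;> decide)
        · exact Or.inr (Or.inr (many_blocks (t0 := 7) (by norm_num) (by decide +kernel) (by decide +kernel) t h))
      · rcases le_or_gt t 4 with h | h
        · interval_cases t
          · exact Or.inl (by decide)
          · exact Or.inr (Or.inr (by decide +kernel))
          · exact Or.inr (Or.inr (by decide +kernel))
        · exact Or.inr (Or.inr (many_blocks (t0 := 5) (by norm_num) (by decide +kernel) (by decide +kernel) t h))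
  · have hd := Nat.mod_eq_zero_of_dvd (h3 rfl)
    rcases le_or_gt 19 p with h | h
    · rcases eq_or_lt_of_le ht with h1 | h2
      · subst h1
        rcases le_or_gt 44 p with h' | h'
        · refine Or.inr (Or.inr ?_)
          rw [show pf 1 = 1 by rfl, show wexc 3 = 216 by rfl, show 1 * 3 = 2 + 1 by rfl, pow_add]
          nlinarith [Nat.zero_le (p ^ 2)]
        · have h'' : p = 19 ∨ p = 31 ∨ p = 37 ∨ p = 43 := by
            interval_cases p <;> first | omega | exact absurd hp (by norm_num)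
          refine Or.inl ?_
          rcases h'' with rfl | rfl | rfl | rfl <;> decide
      · refine Or.inr (Or.inr (many_blocks (t0 := 2) (by norm_num) ?_ ?_ t h2))
        · have := hmon 19 h 3
          rw [show wexc 3 = 216 by rfl]
          omega
        · have := hmon 19 h 4
          rw [show wexc 3 = 216 by rfl, show 2 * 3 = 2 + 4 by rfl, pow_add]
          rw [mul_left_comm 5]
          exact Nat.mul_le_mul_left _ (le_trans (by norm_num) (Nat.mul_le_mul_left 5 this))
    · obtain rfl : p = 13 := by interval_cases p <;> first | rfl | omega | exact absurd hp (by norm_num)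
      rcases le_or_gt t 10 with h | h
      · exact Or.inl (by interval_cases t <;> decide)
      · exact Or.inr (Or.inl (by omega))
  · rcases eq_or_lt_of_le ht with h1 | h2
    · subst h1
      rcases le_or_gt 17 p with h | h
      · refine Or.inr (Or.inr ?_)
        have := hmon 17 h 2
        rw [show pf 1 = 1 by rfl, show wexc 4 = 1152 by rfl, show 1 * 4 = 2 + 2 by rfl, pow_add p 2 2]
        nlinarith
      · refine Or.inl ?_
        rcases (show p = 11 ∨ p = 13 by omega) with rfl | rfl <;> decide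
    · rcases eq_or_lt_of_le (Nat.succ_le_of_lt h2) with h2' | h3'
      · refine Or.inr (Or.inr ?_)
        obtain rfl : t = 2 := h2'.symm
        have := hmon 11 hp11 6
        rw [show pf 2 = 2 by rfl, show wexc 4 = 1152 by rfl, show 2 * 4 = 2 + 6 by rfl, pow_add p 2 6]
        nlinarith [Nat.zero_le (p ^ 2)]
      · refine Or.inr (Or.inr (many_blocks (t0 := 3) (by norm_num) ?_ ?_ t h3'))
        · have := hmon 11 hp11 4
          rw [show wexc 4 = 1152 by rfl]
          omega
        · have := hmon 11 hp11 10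
          rw [show wexc 4 = 1152 by rfl, show 3 * 4 = 2 + 10 by rfl, pow_add p 2 10]
          rw [mul_left_comm 5]
          exact Nat.mul_le_mul_left _ (le_trans (by norm_num) (Nat.mul_le_mul_left 5 this))

theorem mono_blocks {p : ℕ} (hp : 11 ≤ p) {t : ℕ} (ht : 2 ≤ t) : p ^ 2 * pf t ^ 2 ≤ 5 * p ^ t := by
  rcases le_or_gt 6 t with h | h
  · have h1 := many_blocks (p := p) (r := 1) (C := 1) (t0 := 6) (by norm_num) ?_ ?_ t h
    · simpa using h1
    · rw [pow_one]; omega
    · have := Nat.pow_le_pow_left hp 4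
      rw [show 6 * 1 = 2 + 4 by rfl, pow_add]
      norm_num at this ⊢
      nlinarith [Nat.zero_le (p ^ 2)]
  · have hj : ∀ j, 11 ^ j ≤ p ^ j := fun j => Nat.pow_le_pow_left hp j
    have h1 := hj (t - 2)
    have key : pf t ^ 2 ≤ 5 * 11 ^ (t - 2) := by interval_cases t <;> decide
    calc p ^ 2 * pf t ^ 2 ≤ p ^ 2 * (5 * p ^ (t - 2)) := Nat.mul_le_mul_left _ (key.trans (Nat.mul_le_mul_left 5 h1))
      _ = 5 * p ^ t := by rw [mul_left_comm, ← pow_add]; congr 2; omega

/-- **the arithmetic** -/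
theorem arith_core {p t r s e k kb o x u wb : ℕ} (hp : p.Prime) (hp11 : 11 ≤ p) (ht : 1 ≤ t) (hs : 1 ≤ s)
    (he : 1 ≤ e) (hse : s * e ≤ r) (hn : 2 ≤ t * r) (h3 : s = 1 → e = 3 → 3 ∣ p - 1)
    (hnot : ¬(t = 1 ∧ s = 1 ∧ r = 2 ∧ e = 2)) (hx : 1 ≤ x) (hkb : 1 ≤ kb)
    (hk : x + (kb - 1) * u ≤ k * u) (hu1 : 1 ≤ u) (hu : u ≤ pf t * s ^ t)
    (hwb : wb ≤ pf t * (s * W e) ^ t) (hL : kb ≤ 5 → wb ≤ landau kb) (ho : t ≤ o)
    (hcount : p ^ (t * r) - 1 ≤ o * x * wb) : 49 * p ≤ 60 * (k + o) := by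
  have hk0 : 1 ≤ k := by
    by_contra h
    have h0 : k = 0 := by omega
    rw [h0, zero_mul] at hk
    omega
  have big : p ^ 2 * (pf t ^ 2 * (s ^ 2 * W e) ^ t) ≤ 5 * p ^ (t * r) → 49 * p ≤ 60 * (k + o) := by
    intro hbig
    refine core_of_big (u := u) (R := pf t * (s * W e) ^ t) (n := t * r) hp11 hn (by omega) hu1
      (hcount.trans (Nat.mul_le_mul_left _ hwb)) (le_trans (Nat.mul_le_mul_left _ ?_) hbig)
    calc u * (pf t * (s * W e) ^ t) ≤ pf t * s ^ t * (pf t * (s * W e) ^ t) := Nat.mul_le_mul_right _ hu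
      _ = pf t ^ 2 * (s ^ 2 * W e) ^ t := by rw [mul_pow s, mul_pow (s ^ 2), ← pow_mul, mul_comm 2 t, pow_mul]; ring
  rcases eq_or_lt_of_le (show 1 ≤ r from le_trans (Nat.one_le_iff_ne_zero.2 (by positivity)) hse) with hr1 | hr2
  · -- monomial
    subst hr1
    have hs1 : s = 1 := by nlinarith
    have he1 : e = 1 := by nlinarith
    subst hs1 he1
    refine big ?_
    rw [W_one]
    simpa using mono_blocks hp11 (by omega : 2 ≤ t)
  by_cases hexc : s = 1 ∧ r = e ∧ e ≤ 4
  · obtain ⟨rfl, rfl, hr4⟩ := hexc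
    have hr : r = 2 ∨ r = 3 ∨ r = 4 := by omega
    have hW : W r = wexc r := by rcases hr with rfl | rfl | rfl <;> simp [W_two, W_three, W_four, wexc]
    simp only [one_pow, one_mul, mul_one, hW] at big hu hwb
    rcases exc_cases hp hp11 hr ht (fun h => by
        by_contra h'
        exact hnot ⟨by omega, rfl, h, h⟩) (h3 rfl) with h | h | h
    · exact fin_core h hx hkb hk hu hu1 hwb hL ho (by rwa [mul_comm r t])
    · omega
    · exact big h
  · have h := base_eleven hr2 hs he hse hexc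
    obtain ⟨j, rfl⟩ : ∃ j, r = j + 2 := ⟨r - 2, by omega⟩
    have hC : s ^ 2 * W e ≤ 5 * p ^ j := by
      refine le_trans ?_ (Nat.mul_le_mul_left 5 (Nat.pow_le_pow_left hp11 j))
      rw [pow_add] at h
      norm_num at h
      omega
    refine big (many_blocks (t0 := 1) le_rfl ?_ ?_ t ht)
    · calc 9 * (s ^ 2 * W e) ≤ 9 * (5 * p ^ j) := Nat.mul_le_mul_left _ hC
        _ = 45 * p ^ j := by ring
        _ ≤ p ^ 2 * p ^ j := Nat.mul_le_mul_right _ (by nlinarith)
        _ = p ^ (j + 2) := by rw [← pow_add, Nat.add_comm]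
    · calc p ^ 2 * (9 ^ (1 - 1) * (s ^ 2 * W e) ^ 1) ≤ p ^ 2 * (5 * p ^ j) := by
            simpa using Nat.mul_le_mul_left (p ^ 2) hC
        _ = 5 * p ^ (1 * (j + 2)) := by ring

end CfsgLib.Coprime.ClassLower
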