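import Cfsg.Agent.Lib.Coprime.ClassMod.Pairing
import Cfsg.Agent.Lib.Coprime.ClassLower.Arith

/-!
# The order of a solvable group acting on a symplectic section
-/

set_option autoImplicit false
set_option linter.style.haveILetI false
set_option linter.unusedSectionVars false

namespace CfsgLib.Coprime.ClassLower

open Module CfsgLib.Char CfsgLib.Char.Berger CfsgLib.Coprime.ClassMod

universe v w

/-- a group preserving orthogonality is semisimple when no totally isotropic subspace is invariant -/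
theorem ss_of_zero {p : ℕ} [Fact p.Prime] {V : Type v} [AddCommGroup V] [Module (ZMod p) V] [Finite V]
    (b : V →ₗ[ZMod p] V →ₗ[ZMod p] ZMod p) (X : Subgroup (V ≃ₗ[ZMod p] V))
    (hX : ∀ g ∈ X, ∀ v w, b v w = 0 → b (g v) (g w) = 0)
    (hiso : ∀ W : Submodule (ZMod p) V, Inv X W → (∀ v ∈ W, ∀ w ∈ W, b v w = 0) → W = ⊥) : SS X := by
  intro W hW
  haveI : FiniteDimensional (ZMod p) V := Module.Finite.of_finite
  let L : V →ₗ[ZMod p] Module.Dual (ZMod p) W := (W.subtype.dualMap).comp b
  have hL : ∀ v, v ∈ LinearMap.ker L ↔ ∀ w ∈ W, b v w = 0 := fun v =>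
    ⟨fun h w hw => DFunLike.congr_fun (LinearMap.mem_ker.1 h) ⟨w, hw⟩,
      fun h => LinearMap.mem_ker.2 (LinearMap.ext fun w => h w w.2)⟩
  have hinv : Inv X (LinearMap.ker L) := by
    intro g hg v hv
    rw [hL] at hv ⊢
    intro w hw
    have h1 : (g⁻¹ : V ≃ₗ[ZMod p] V) w ∈ W := hW g⁻¹ (inv_mem hg) w hw
    have h2 : g ((g⁻¹ : V ≃ₗ[ZMod p] V) w) = w := LinearEquiv.apply_symm_apply g w
    rw [← h2]
    exact hX g hg _ _ (hv _ h1)
  refine ⟨LinearMap.ker L, hinv, ?_⟩
  have hd : W ⊓ LinearMap.ker L = ⊥ := hiso _ (fun g hg v hv => ⟨hW g hg v hv.1, hinv g hg v hv.2⟩)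
    fun v hv w hw => (hL v).1 hv.2 w hw.1
  refine ⟨disjoint_iff.2 hd, codisjoint_iff.2 (Submodule.eq_top_of_finrank_eq ?_)⟩
  have h1 := Submodule.finrank_sup_add_finrank_inf_eq W (LinearMap.ker L)
  rw [hd, finrank_bot] at h1
  have h2 := LinearMap.finrank_range_add_finrank_ker L
  have h3 : finrank (ZMod p) (LinearMap.range L) ≤ finrank (ZMod p) W :=
    (Submodule.finrank_le _).trans (le_of_eq Subspace.dual_finrank_eq)
  have h4 := Submodule.finrank_le (W ⊔ LinearMap.ker L)
  omega

/-- one prime, with a module structure -/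
theorem card_map_prime_aux {q : ℕ} [Fact q.Prime] {M : Type v} [CommGroup M] [Finite M] [Nontrivial M]
    [Module (ZMod q) (Additive M)] (hexp : ∀ x : M, x ^ q = 1) {Z : Type w} [CommGroup Z] [Finite Z]
    (hZ : Nat.card (killedBy Z q) ≤ q) (β : M →* M →* Z) (halt : ∀ x, β x x = 1)
    (hnd : ∀ x, (∀ y, β x y = 1) → x = 1) {G : Type*} [Group G] [Finite G] [Group.IsSolvable G]
    (act : G →* MulAut M) (C : Subgroup G) (hinv : ∀ g ∈ C, ∀ x y, β (act g x) (act g y) = β x y)
    (hzero : ∀ g x y, β x y = 1 → β (act g x) (act g y) = 1)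
    (hiso : ∀ U : Subgroup M, (∀ g, ∀ u ∈ U, act g u ∈ U) → (∀ u ∈ U, ∀ v ∈ U, β u v = 1) → U = ⊥) :
    ∃ m, 1 ≤ m ∧ Nat.card M = q ^ (2 * m) ∧ Nat.card (C.map act) ≤ SB q m := by
  classical
  obtain ⟨m, hm⟩ := exists_card_eq_pow_two_mul_of_pairing hZ _ M rfl hexp β halt hnd
  haveI : Finite (Additive M) := Finite.of_equiv M Additive.ofMul
  have hm1 : 1 ≤ m := by
    by_contra h
    have h1 : Nat.card M = 1 := by rw [hm, show m = 0 by omega]; norm_num
    exact absurd h1 (Finite.one_lt_card (α := M)).ne'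
  refine ⟨m, hm1, hm, ?_⟩
  have hd : finrank (ZMod q) (Additive M) = 2 * m := by
    refine Nat.pow_right_injective (Fact.out : q.Prime).two_le ?_
    show q ^ finrank (ZMod q) (Additive M) = q ^ (2 * m)
    rw [← hm, Nat.card_congr (Additive.ofMul (α := M)), Module.natCard_eq_pow_finrank (K := ZMod q) (V := Additive M),
      Nat.card_zmod]
  have hval : ∀ x y, β x y ∈ killedBy Z q := fun x y => mem_killedBy.2 (by rw [← map_pow, hexp, map_one])
  have hcard : Nat.card (killedBy Z q) = q := by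
    refine le_antisymm hZ ?_
    obtain ⟨x, hx⟩ := exists_ne (1 : M)
    obtain ⟨y, hy⟩ : ∃ y, β x y ≠ 1 := by
      by_contra! h
      exact hx (hnd x h)
    have h1 : orderOf (⟨β x y, hval x y⟩ : killedBy Z q) = q :=
      orderOf_eq_prime (Subtype.ext (mem_killedBy.1 (hval x y))) fun h => hy (congrArg Subtype.val h)
    refine Nat.le_of_dvd Nat.card_pos ?_
    conv_lhs => rw [← h1]
    exact orderOf_dvd_natCard _
  haveI : IsCyclic (killedBy Z q) := isCyclic_of_prime_card hcard
  let e : killedBy Z q ≃* Multiplicative (ZMod q) :=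
    mulEquivOfCyclicCardEq (by rw [hcard, Nat.card_congr Multiplicative.toAdd, Nat.card_zmod])
  let b0 : Additive M → Additive M → ZMod q := fun u v => (e ⟨β u.toMul v.toMul, hval _ _⟩).toAdd
  have hb0l : ∀ u u' v, b0 (u + u') v = b0 u v + b0 u' v := fun u u' v => by
    show (e _).toAdd = (e _).toAdd + (e _).toAdd
    rw [← toAdd_mul, ← map_mul]
    congr 2
    exact Subtype.ext (by simp)
  have hb0r : ∀ u v v', b0 u (v + v') = b0 u v + b0 u v' := fun u v v' => by
    show (e _).toAdd = (e _).toAdd + (e _).toAdd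
    rw [← toAdd_mul, ← map_mul]
    congr 2
    exact Subtype.ext (map_mul _ _ _)
  let bl : Additive M → (Additive M →ₗ[ZMod q] ZMod q) := fun u =>
    (AddMonoidHom.mk' (b0 u) (hb0r u)).toZModLinearMap q
  let bb : Additive M →ₗ[ZMod q] (Additive M →ₗ[ZMod q] ZMod q) :=
    (AddMonoidHom.mk' bl fun u u' => LinearMap.ext fun v => hb0l u u' v).toZModLinearMap q
  have hzero' : ∀ u v, bb u v = 0 ↔ β u.toMul v.toMul = 1 := by
    intro u v
    constructor
    · intro h
      have h2 : (⟨β u.toMul v.toMul, hval _ _⟩ : killedBy Z q) = 1 :=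
        e.injective ((Multiplicative.toAdd.injective (h : (e _).toAdd = (1 : Multiplicative (ZMod q)).toAdd)).trans
          (map_one e).symm)
      exact congrArg Subtype.val h2
    · intro h
      show (e _).toAdd = 0
      rw [show (⟨β u.toMul v.toMul, hval _ _⟩ : killedBy Z q) = 1 from Subtype.ext h, map_one]
      rfl
  have hbnd : ∀ u, (∀ v, bb u v = 0) → u = 0 := fun u hu =>
    Additive.toMul.injective (hnd u.toMul fun y => (hzero' u (Additive.ofMul y)).1 (hu _))
  haveI := finite_gl (p := q) (V := Additive M)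
  let L : G →* (Additive M ≃ₗ[ZMod q] Additive M) := (toLin q M).comp act
  have hX : ∀ g ∈ C.map L, ∀ u v, bb (g u) (g v) = bb u v := by
    rintro _ ⟨g, hg, rfl⟩ u v
    show (e _).toAdd = (e _).toAdd
    congr 2
    exact Subtype.ext (hinv g hg u.toMul v.toMul)
  have hLinj : Function.Injective (toLin q M) := fun α α' h => MulEquiv.ext fun x =>
    congrArg Additive.toMul (DFunLike.congr_fun h (Additive.ofMul x))
  have hC : Nat.card (C.map act) = Nat.card (C.map L) := by
    rw [show C.map L = (C.map act).map (toLin q M) from (Subgroup.map_map _ _ _).symm,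
      Subgroup.card_map_of_injective hLinj]
  rw [hC]
  have hL : ∀ B : ℕ, OB.{v} q (2 * m) B → Nat.card (C.map L) ≤ B := by
    intro B hB
    haveI : Group.IsSolvable L.range := Group.isSolvable_of_surjective L.rangeRestrict_surjective
    refine le_trans (Nat.card_le_card_of_injective _ (Subgroup.inclusion_injective (Subgroup.map_le_range L C)))
      (hB (Additive M) hd L.range inferInstance (ss_of_zero bb L.range ?_ ?_))
    · rintro _ ⟨g, rfl⟩ u v huv
      exact (hzero' _ _).2 (hzero g u.toMul v.toMul ((hzero' u v).1 huv))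
    · intro W hW hW0
      let U : Subgroup M :=
        { carrier := {x | Additive.ofMul x ∈ W}
          one_mem' := zero_mem W
          mul_mem' := fun {a b} ha hb => add_mem (s := W) ha hb
          inv_mem' := fun {a} ha => neg_mem (s := W) ha }
      have hU := hiso U (fun g u hu => hW _ ⟨g, rfl⟩ _ hu) fun u hu v hv => (hzero' _ _).1 (hW0 _ hu _ hv)
      refine (Submodule.eq_bot_iff W).2 fun w hw => ?_
      have hmem : w.toMul ∈ U := hw
      rw [hU, Subgroup.mem_bot] at hmem
      exact congrArg Additive.ofMul hmem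
  unfold SB
  split_ifs with h1 h2 h3 h4
  · obtain ⟨rfl, rfl⟩ := h1
    exact hL 6 (ob_two 2 (by norm_num))
  · obtain ⟨rfl, rfl⟩ := h2
    exact hL 72 (ob_two 4 (by norm_num))
  · obtain ⟨rfl, rfl⟩ := h3
    exact hL 1296 (ob_two 6 (by norm_num))
  · obtain ⟨rfl, rfl⟩ := h4
    haveI : FiniteDimensional (ZMod 3) (Additive M) := Module.Finite.of_finite
    let bs := Module.finBasisOfFinrankEq (ZMod 3) (Additive M) hd
    let f : C.map L → Matrix.SpecialLinearGroup (Fin 2) (ZMod 3) := fun g =>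
      ⟨LinearMap.toMatrix bs bs (g : Additive M ≃ₗ[ZMod 3] Additive M).toLinearMap, by
        rw [LinearMap.det_toMatrix]
        exact det_eq_one_of_form bb (fun u => (hzero' u u).2 (halt _)) hbnd hd _ (hX _ g.2)⟩
    refine (Nat.card_le_card_of_injective f fun g h hgh => Subtype.ext (LinearEquiv.toLinearMap_injective
      ((LinearMap.toMatrix bs bs).injective (congrArg Subtype.val hgh)))).trans ?_
    rw [Nat.card_eq_fintype_card, card_sl2_three]
  · exact card_isometries_le bb hbnd hd _ hX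

/-- one prime -/
theorem card_map_prime {q : ℕ} [Fact q.Prime] {M : Type v} [CommGroup M] [Finite M] [Nontrivial M]
    (hexp : ∀ x : M, x ^ q = 1) {Z : Type w} [CommGroup Z] [Finite Z]
    (hZ : Nat.card (killedBy Z q) ≤ q) (β : M →* M →* Z) (halt : ∀ x, β x x = 1)
    (hnd : ∀ x, (∀ y, β x y = 1) → x = 1) {G : Type*} [Group G] [Finite G] [Group.IsSolvable G]
    (act : G →* MulAut M) (C : Subgroup G) (hinv : ∀ g ∈ C, ∀ x y, β (act g x) (act g y) = β x y)
    (hzero : ∀ g x y, β x y = 1 → β (act g x) (act g y) = 1)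
    (hiso : ∀ U : Subgroup M, (∀ g, ∀ u ∈ U, act g u ∈ U) → (∀ u ∈ U, ∀ v ∈ U, β u v = 1) → U = ⊥) :
    ∃ m, 1 ≤ m ∧ Nat.card M = q ^ (2 * m) ∧ Nat.card (C.map act) ≤ SB q m :=
  @card_map_prime_aux q _ M _ _ _ (AddCommGroup.zmodModule fun a => congrArg Additive.ofMul (hexp a.toMul))
    hexp Z _ _ hZ β halt hnd G _ _ _ act C hinv hzero hiso

/-- **all primes together** -/
theorem card_map_pairing {E : Type v} [CommGroup E] [Finite E]
    (hsq : ∀ q : ℕ, q.Prime → ∀ x : E, x ^ (q ^ 2) = 1 → x ^ q = 1) {Z : Type w} [CommGroup Z] [Finite Z]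
    (hZ : ∀ q : ℕ, q.Prime → Nat.card (killedBy Z q) ≤ q) (β : E →* E →* Z) (halt : ∀ x, β x x = 1)
    (hnd : ∀ x, (∀ y, β x y = 1) → x = 1) {G : Type*} [Group G] [Finite G] [Group.IsSolvable G]
    (act : G →* MulAut E) (C : Subgroup G) (hinv : ∀ g ∈ C, ∀ x y, β (act g x) (act g y) = β x y)
    (hzero : ∀ g x y, β x y = 1 → β (act g x) (act g y) = 1)
    (hiso : ∀ U : Subgroup E, (∀ g, ∀ u ∈ U, act g u ∈ U) → (∀ u ∈ U, ∀ v ∈ U, β u v = 1) → U = ⊥)
    {d : ℕ} (hd : Nat.card E = d ^ 2) :
    Nat.card (C.map act) ≤ ∏ q ∈ d.primeFactors, SB q (d.factorization q) := by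
  classical
  set s := (Nat.card E).primeFactors with hs
  have hsd : s = d.primeFactors := by rw [hs, hd, Nat.primeFactors_pow _ two_ne_zero]
  let actp : ∀ q : s, G →* MulAut (killedBy E (q : ℕ)) := fun q => (restrictKilledBy E (q : ℕ)).comp act
  have hone : ∀ q : s, Nat.card (C.map (actp q)) ≤ SB (q : ℕ) (d.factorization (q : ℕ)) := by
    intro q
    haveI := Fact.mk (Nat.prime_of_mem_primeFactors q.2)
    obtain ⟨x, hx⟩ := exists_prime_orderOf_dvd_card' (G := E) (q : ℕ) (Nat.dvd_of_mem_primeFactors q.2)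
    haveI : Nontrivial (killedBy E (q : ℕ)) := ⟨⟨⟨x, mem_killedBy.2 (by rw [← hx, pow_orderOf_eq_one])⟩, 1, fun h => by
      have h1 : x = 1 := congrArg Subtype.val h
      rw [h1, orderOf_one] at hx
      exact (Fact.out : (q : ℕ).Prime).ne_one hx.symm⟩⟩
    let β' : killedBy E (q : ℕ) →* killedBy E (q : ℕ) →* Z :=
      MonoidHom.mk' (fun a => (β (a : E)).comp (killedBy E (q : ℕ)).subtype) fun a b => by ext c; simp
    obtain ⟨m, -, hm, hb⟩ := card_map_prime (fun x : killedBy E (q : ℕ) => Subtype.ext (mem_killedBy.1 x.2))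
      (hZ q Fact.out) β' (fun x => halt x) (fun x hx => by
        refine Subtype.ext (hnd x fun y => ?_)
        have htop : (β (x : E)).ker = ⊤ := eq_top_of_killedBy hsq _ fun r hr z hz => by
          rcases eq_or_ne r (q : ℕ) with rfl | hne
          · exact hx ⟨z, hz⟩
          · refine MonoidHom.mem_ker.2 (orderOf_eq_one_iff.1 (Nat.eq_one_of_dvd_coprimes
              ((Nat.coprime_primes (Nat.prime_of_mem_primeFactors hr) Fact.out).2 hne) ?_ ?_))
            · exact orderOf_dvd_of_pow_eq_one (by rw [← map_pow, mem_killedBy.1 hz, map_one])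
            · refine orderOf_dvd_of_pow_eq_one ?_
              rw [← MonoidHom.pow_apply, ← map_pow, mem_killedBy.1 x.2, map_one, MonoidHom.one_apply]
        exact MonoidHom.mem_ker.1 (htop ▸ Subgroup.mem_top y))
      (actp q) C (fun g hg x y => hinv g hg x y) (fun g x y => hzero g x y) (fun U hU hU0 => by
        have h := hiso (U.map (killedBy E (q : ℕ)).subtype) (by
          rintro g _ ⟨u, hu, rfl⟩
          exact ⟨actp q g u, hU g u hu, rfl⟩) (by
          rintro _ ⟨u, hu, rfl⟩ _ ⟨v, hv, rfl⟩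
          exact hU0 u hu v hv)
        exact (Subgroup.map_eq_bot_iff_of_injective _ (killedBy E (q : ℕ)).subtype_injective).1 h)
    obtain ⟨P⟩ : Nonempty (Sylow (q : ℕ) E) := inferInstance
    rw [sylow_eq_killedBy (hsq q Fact.out) P, P.card_eq_multiplicity, hd, Nat.factorization_pow,
      Finsupp.smul_apply, smul_eq_mul] at hm
    have := Nat.pow_right_injective (Fact.out : (q : ℕ).Prime).two_le hm
    rwa [show d.factorization q = m by omega]
  let Φ : C.map act →* ∀ q : s, C.map (actp q) :=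
    Pi.monoidHom fun q => ((restrictKilledBy E (q : ℕ)).comp (C.map act).subtype).codRestrict _ fun x => by
      obtain ⟨g, hg, hgx⟩ := Subgroup.mem_map.1 x.2
      exact ⟨g, hg, by show restrictKilledBy E (q : ℕ) (act g) = _; rw [hgx]; rfl⟩
  have hΦ : Function.Injective Φ := (injective_iff_map_eq_one Φ).2 fun x hx => by
    have htop : MonoidHom.eqLocus (x : MulAut E).toMonoidHom (MonoidHom.id E) = ⊤ :=
      eq_top_of_killedBy hsq _ fun r hr z hz =>
        (congrArg Subtype.val (DFunLike.congr_fun (congrArg Subtype.val (congrFun hx ⟨r, hr⟩))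
          (⟨z, hz⟩ : killedBy E r)) :)
    exact Subtype.ext (MulEquiv.ext fun z => (show z ∈ MonoidHom.eqLocus (x : MulAut E).toMonoidHom (MonoidHom.id E)
      from htop ▸ Subgroup.mem_top z))
  refine (Nat.card_le_card_of_injective Φ hΦ).trans ?_
  rw [Nat.card_pi, ← hsd, ← Finset.prod_coe_sort s (fun q => SB q (d.factorization q))]
  exact Finset.prod_le_prod' fun q _ => hone q

end CfsgLib.Coprime.ClassLower
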