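import Cfsg.Agent.Lib.Coprime.ClassMod.Linear
import Cfsg.Agent.Lib.Coprime.ClassLower.Sect
import Cfsg.Agent.Lib.Coprime.Component

/-!
# Solvable linear groups all of whose abelian normal subgroups span fields
-/

set_option autoImplicit false
set_option linter.unusedSectionVars false
set_option linter.style.haveILetI false
set_option maxHeartbeats 1000000

namespace CfsgLib.Coprime.ClassLower

open Module CfsgLib.Char CfsgLib.Char.Berger CfsgLib.Coprime.ClassMod
open scoped commutatorElement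

universe v

/-- all abelian normal subgroups span fields -/
def AllField {p : ℕ} [Fact p.Prime] {V : Type v} [AddCommGroup V] [Module (ZMod p) V]
    (G : Subgroup (V ≃ₗ[ZMod p] V)) : Prop :=
  ∀ A : Subgroup G, A.Normal → (∀ a ∈ A, ∀ b ∈ A, a * b = b * a) → IsField (spanAlg G.subtype A)

/-- the data of symplectic type -/
structure PrimData {G : Type*} [Group G] (p n : ℕ) (A F : Subgroup G) (s e : ℕ) : Prop where
  normal_A : A.Normal
  normal_F : F.Normal
  comm : ∀ a ∈ A, ∀ b ∈ A, a * b = b * a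
  le_F : A ≤ F
  F_le : F ≤ Subgroup.centralizer (A : Set G)
  one_le_s : 1 ≤ s
  one_le_e : 1 ≤ e
  dim : s * e ≤ n
  cyclic : IsCyclic A
  card_dvd : Nat.card A ∣ p ^ s - 1
  index_le : (Subgroup.centralizer (A : Set G)).index ≤ s
  relIndex_le : A.relIndex (Subgroup.centralizer (A : Set G)) ≤ W e
  relIndex_F : A.relIndex F = e ^ 2
  comm_mem : ∀ x ∈ F, ∀ y ∈ F, ⁅x, y⁆ ∈ A
  faithful : ∀ g ∈ Subgroup.centralizer (A : Set G), (∀ x ∈ F, ⁅g, x⁆ ∈ A) → g ∈ F
  sqfree : ∀ q : ℕ, q.Prime → ∀ x ∈ F, x ^ (q ^ 2) ∈ A → x ^ q ∈ A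
  prime_dvd : ∀ q : ℕ, q.Prime → q ∣ e → q ∣ Nat.card A
  maximal : ∀ B : Subgroup G, B.Normal → (∀ a ∈ B, ∀ b ∈ B, a * b = b * a) → A ≤ B → B = A

variable {p : ℕ} [Fact p.Prime] {V : Type v} [AddCommGroup V] [Module (ZMod p) V] [Finite V]

theorem card_monoidHom_le (M Z : Type*) [CommGroup M] [Finite M] [CommGroup Z] [Finite Z] [IsCyclic Z] :
    Nat.card (M →* Z) ≤ Nat.card M := by
  haveI : NeZero (Nat.card Z) := ⟨Nat.card_pos.ne'⟩
  haveI : NeZero (Monoid.exponent M) := ⟨Monoid.exponent_ne_zero_of_finite⟩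
  let e : Z ≃* rootsOfUnity (Nat.card Z) ℂ :=
    mulEquivOfCyclicCardEq (HasEnoughRootsOfUnity.natCard_rootsOfUnity ℂ (Nat.card Z)).symm
  let ι : Z →* ℂˣ := (rootsOfUnity (Nat.card Z) ℂ).subtype.comp e.toMonoidHom
  have hι : Function.Injective ι := Subtype.val_injective.comp e.injective
  haveI : Finite (M →* ℂˣ) := Nat.finite_of_card_ne_zero
    (by rw [CommGroup.card_monoidHom_of_hasEnoughRootsOfUnity M ℂ]; exact Nat.card_pos.ne')
  rw [← CommGroup.card_monoidHom_of_hasEnoughRootsOfUnity M ℂ]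
  exact Nat.card_le_card_of_injective (fun f : M →* Z => ι.comp f) fun f g h =>
    MonoidHom.ext fun m => hι (DFunLike.congr_fun h m)

/-- **the structure of symplectic type** -/
theorem prim_structure [Nontrivial V] (G : Subgroup (V ≃ₗ[ZMod p] V)) (hs : Group.IsSolvable G)
    (hfield : AllField G) : ∃ (A F : Subgroup G) (s e : ℕ), PrimData p (finrank (ZMod p) V) A F s e := by
  classical
  haveI := hs
  haveI := finite_moduleEnd (q := p) (V := V)
  haveI : Finite G := inferInstance
  obtain ⟨A, ⟨hAn, hA⟩, hmax⟩ := exists_maximal_normal_abelian (G := G)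
  haveI := hAn
  have hK := hfield A hAn hA
  set K := spanAlg G.subtype A with hKdef
  haveI : Finite K := Subtype.finite
  letI : Field K := hK.toField
  set τ := toEndHom G.subtype with hτ
  have hτinj : Function.Injective τ := toEndHom_injective G.subtype_injective
  have hτmem : ∀ a ∈ A, τ a ∈ K := fun a ha => toEndHom_mem_spanAlg G.subtype ha
  let ψ : G →* (K ≃ₐ[ZMod p] K) :=
    { toFun := fun g => AlgEquiv.ofAlgHom
        ((((conjEnd G.subtype g).comp K.val)).codRestrict K fun x => conjEnd_mem_spanAlg G.subtype g x.2)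
        ((((conjEnd G.subtype g⁻¹).comp K.val)).codRestrict K fun x => conjEnd_mem_spanAlg G.subtype g⁻¹ x.2)
        (AlgHom.ext fun x => Subtype.ext (by
          show conjEnd G.subtype g (conjEnd G.subtype g⁻¹ (x : Module.End (ZMod p) V)) = x
          rw [← conjEnd_mul, mul_inv_cancel, conjEnd_one]))
        (AlgHom.ext fun x => Subtype.ext (by
          show conjEnd G.subtype g⁻¹ (conjEnd G.subtype g (x : Module.End (ZMod p) V)) = x
          rw [← conjEnd_mul, inv_mul_cancel, conjEnd_one]))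
      map_one' := AlgEquiv.ext fun x => Subtype.ext (conjEnd_one _ _)
      map_mul' := fun g h => AlgEquiv.ext fun x => Subtype.ext (conjEnd_mul _ g h _) }
  have hψval : ∀ g (x : K), (ψ g x : Module.End (ZMod p) V) = conjEnd G.subtype g x := fun g x => rfl
  let C := Subgroup.centralizer (A : Set G)
  have hψker : ψ.ker = C := by
    ext g
    rw [MonoidHom.mem_ker, Subgroup.mem_centralizer_iff]
    constructor
    · intro h a ha
      have h1 := congrArg Subtype.val (DFunLike.congr_fun h (⟨τ a, hτmem a ha⟩ : K))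
      rw [hψval, conjEnd_toEndHom] at h1
      have h2 := hτinj h1
      calc a * g = g * a * g⁻¹ * g := by rw [h2]
        _ = g * a := by group
    · intro h
      refine AlgEquiv.ext fun x => Subtype.ext ?_
      rw [hψval, conjEnd_apply]
      have hc := commute_spanAlg G.subtype (g := g) (fun a ha => (h a ha).symm) x.2
      rw [hc.eq, mul_assoc, ← map_mul, mul_inv_cancel, map_one, mul_one]
      rfl
  haveI hCn : C.Normal := hψker ▸ MonoidHom.normal_ker ψ
  have hAC : A ≤ C := fun a ha => Subgroup.mem_centralizer_iff.2 fun b hb => hA b hb a ha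
  set s := finrank (ZMod p) K with hsdef
  have hKcard : Nat.card K = p ^ s := by rw [Module.natCard_eq_pow_finrank (K := ZMod p), Nat.card_zmod]
  have hs1 : 1 ≤ s := Module.finrank_pos
  have hindex : C.index ≤ s := by
    rw [← hψker, Subgroup.index_ker]
    refine (Subgroup.card_le_card_group _).trans (le_of_eq ?_)
    rw [IsGalois.card_aut_eq_finrank]
  let ev0 : A →* K :=
    { toFun := fun x => ⟨τ (x : G), hτmem _ x.2⟩
      map_one' := Subtype.ext (map_one τ)
      map_mul' := fun x y => Subtype.ext (map_mul τ (x : G) (y : G)) }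
  have hev0 : Function.Injective ev0 := fun x y h => Subtype.ext (hτinj (congrArg Subtype.val h))
  haveI hcyc : IsCyclic A := isCyclic_of_subgroup_isDomain ev0 hev0
  have hAcard : Nat.card A ∣ p ^ s - 1 := by
    have hu : Function.Injective ev0.toHomUnits := fun x y h => hev0 (congrArg Units.val h)
    refine (Subgroup.card_dvd_of_injective _ hu).trans (dvd_of_eq ?_)
    rw [← hKcard, Nat.card_units]
  -- the Fitting subgroup of the centralizer
  haveI : (Cfsg.fittingSubgroup G).Normal := CfsgLib.Coprime.fitting_normal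
  haveI : Group.IsNilpotent (Cfsg.fittingSubgroup G) := CfsgLib.Coprime.fitting_isNilpotent
  set F := Cfsg.fittingSubgroup G ⊓ C with hF
  haveI hFn : F.Normal := inferInstance
  have hAF : A ≤ F := by
    refine le_inf (CfsgLib.Coprime.le_fitting ?_) hAC
    letI : CommGroup A := { (inferInstance : Group A) with
      mul_comm := fun x y => Subtype.ext (hA _ x.2 _ y.2) }
    infer_instance
  have hFC : F ≤ C := inf_le_right
  have hCA : ∀ a ∈ A, ∀ g ∈ C, a * g = g * a := fun a ha g hg => Subgroup.mem_centralizer_iff.1 hg a ha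
  have hcommA : ∀ x ∈ F, ∀ y ∈ F, ⁅x, y⁆ ∈ A := by
    let L : ℕ → Subgroup G := fun k => F.lowerCentralSeries k
    have hLsucc : ∀ k, L (k + 1) = ⁅L k, F⁆ := fun k => rfl
    obtain ⟨n, hn⟩ := (Subgroup.isNilpotent_iff_lowerCentralSeries (Cfsg.fittingSubgroup G)).1
      (inferInstance : Group.IsNilpotent (Cfsg.fittingSubgroup G))
    have hn' : L n = ⊥ := le_bot_iff.1 (hn ▸ Subgroup.lowerCentralSeries_mono n inf_le_left)
    have hLF : ∀ k, L k ≤ F := fun k => Subgroup.lowerCentralSeries_antitone F (Nat.zero_le k)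
    have hstep : ∀ k, 1 ≤ k → L (k + 1) ≤ A → L k ≤ A := by
      intro k hk hle
      have hz : ∀ M : Subgroup G, M ≤ A → ⁅M, F⁆ = ⊥ := fun M hM => le_bot_iff.1
        (Subgroup.commutator_le.2 fun a ha b hb => by
          rw [Subgroup.mem_bot, commutatorElement_eq_one_iff_mul_comm]
          exact hCA a (hM ha) b (hFC hb))
      have h0 : ⁅⁅F, F⁆, L k⁆ = ⊥ := Subgroup.commutator_commutator_eq_bot_of_rotate
        (by rw [Subgroup.commutator_comm F (L k)]; exact hz _ hle) (hz _ hle)
      have hkF : L k ≤ ⁅F, F⁆ := by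
        obtain ⟨j, rfl⟩ := Nat.exists_eq_add_of_le hk
        rw [Nat.add_comm, hLsucc]
        exact Subgroup.commutator_mono (hLF j) le_rfl
      haveI : (L k).Normal := inferInstanceAs (F.lowerCentralSeries k).Normal
      have hab : ∀ a ∈ L k, ∀ b ∈ L k, a * b = b * a := fun u hu v hv => by
        have h1 : ⁅u, v⁆ ∈ (⊥ : Subgroup G) := h0 ▸ Subgroup.commutator_mem_commutator (hkF hu) hv
        exact commutatorElement_eq_one_iff_mul_comm.1 (Subgroup.mem_bot.1 h1)
      have hsup : ∀ a ∈ L k ⊔ A, ∀ b ∈ L k ⊔ A, a * b = b * a := by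
        intro a ha b hb
        obtain ⟨a1, ha1, a2, ha2, rfl⟩ := Subgroup.mem_sup_of_normal_right.1 ha
        obtain ⟨b1, hb1, b2, hb2, rfl⟩ := Subgroup.mem_sup_of_normal_right.1 hb
        have e1 : Commute a1 b1 := hab a1 ha1 b1 hb1
        have e2 : Commute a1 b2 := (hCA b2 hb2 a1 (hFC (hLF k ha1))).symm
        have e3 : Commute a2 b1 := hCA a2 ha2 b1 (hFC (hLF k hb1))
        have e4 : Commute a2 b2 := hA a2 ha2 b2 hb2
        exact ((e1.mul_right e2).mul_left (e3.mul_right e4)).eq
      exact le_sup_left.trans_eq (hmax _ inferInstance hsup le_sup_right)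
    have hdown : ∀ j k, 1 ≤ k → k + j = n + 1 → L k ≤ A := by
      intro j
      induction j with
      | zero =>
        intro k _ hkj
        obtain rfl : k = n + 1 := by omega
        rw [hLsucc, hn']
        exact Subgroup.commutator_le.2 fun a ha b _ => by
          rw [Subgroup.mem_bot.1 ha, commutatorElement_one_left]; exact one_mem _
      | succ j ih =>
        intro k hk hkj
        exact hstep k hk (ih (k + 1) (by omega) (by omega))
    exact fun x hx y hy => hdown n 1 le_rfl (by omega) (Subgroup.commutator_mem_commutator hx hy)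
  have hnd : ∀ x ∈ F, (∀ y ∈ F, ⁅x, y⁆ = 1) → x ∈ A := by
    intro x hx h
    have hZ : F ⊓ Subgroup.centralizer (F : Set G) = A := by
      refine hmax _ inferInstance (fun a ha b hb => ?_) (le_inf hAF fun a ha =>
        Subgroup.mem_centralizer_iff.2 fun e he => (hCA a ha e (hFC he)).symm)
      exact (Subgroup.mem_centralizer_iff.1 ha.2 b hb.1).symm
    rw [← hZ]
    exact ⟨hx, Subgroup.mem_centralizer_iff.2 fun y hy =>
      (commutatorElement_eq_one_iff_mul_comm.1 (h y hy)).symm⟩
  set π := QuotientGroup.mk' A with hπ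
  have hπ1 : ∀ g, π g = 1 ↔ g ∈ A := fun g => QuotientGroup.eq_one_iff g
  -- the elements of the centralizer commuting with `F`
  have hCF : C ⊓ Subgroup.centralizer (F : Set G) ≤ A := by
    haveI : (Subgroup.centralizer (F : Set G)).Normal := Subgroup.normal_centralizer
    set D := C ⊓ Subgroup.centralizer (F : Set G) with hD
    by_contra hne
    haveI : (D.map π).Normal := (inferInstance : D.Normal).map π (QuotientGroup.mk'_surjective A)
    have hD0 : D.map π ≠ ⊥ := fun h => hne (by
      have := (Subgroup.map_eq_bot_iff D).1 h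
      rwa [hπ, QuotientGroup.ker_mk'] at this)
    obtain ⟨q, M, hq, hMn, hMD, hMne, hMcomm, -⟩ := exists_normal_elementary_sub hD0
    haveI := hMn
    haveI : (M.comap π).Normal := inferInstance
    have hED : M.comap π ≤ D := fun e he => by
      obtain ⟨c, hc, hce⟩ := hMD he
      obtain ⟨z, hz, rfl⟩ := (QuotientGroup.mk'_eq_mk' A).1 hce
      exact mul_mem hc ⟨hAC hz, Subgroup.mem_centralizer_iff.2 fun e he => (hCA z hz e (hFC he)).symm⟩
    have hnil : Group.IsNilpotent (M.comap π) := by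
      refine Subgroup.isNilpotent_of_lowerCentralSeries_eq_bot (n := 2) ?_
      have h1 : (M.comap π).lowerCentralSeries 1 ≤ A := by
        rw [show (M.comap π).lowerCentralSeries 1 = ⁅M.comap π, M.comap π⁆ from rfl]
        refine Subgroup.commutator_le.2 fun x hx y hy => (hπ1 _).1 ?_
        rw [map_commutatorElement, commutatorElement_eq_one_iff_mul_comm]
        exact hMcomm _ hx _ hy
      rw [show (M.comap π).lowerCentralSeries 2 = ⁅(M.comap π).lowerCentralSeries 1, M.comap π⁆ from rfl]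
      refine le_bot_iff.1 (Subgroup.commutator_le.2 fun a ha b hb => ?_)
      rw [Subgroup.mem_bot, commutatorElement_eq_one_iff_mul_comm]
      exact hCA a (h1 ha) b (hED hb).1
    refine hMne ((Subgroup.eq_bot_iff_forall M).2 fun m hm => ?_)
    obtain ⟨e, rfl⟩ := QuotientGroup.mk'_surjective A m
    have he : e ∈ M.comap π := hm
    have heF : e ∈ F := ⟨CfsgLib.Coprime.le_fitting hnil he, (hED he).1⟩
    exact (hπ1 e).2 (hnd e heF fun y hy => commutatorElement_eq_one_iff_mul_comm.2
      (Subgroup.mem_centralizer_iff.1 (hED he).2 y hy).symm)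
  -- the section
  set M := F.map π with hMdef
  haveI hMn : M.Normal := hFn.map π (QuotientGroup.mk'_surjective A)
  letI : CommGroup M := { (inferInstance : Group M) with
    mul_comm := fun x y => Subtype.ext (by
      obtain ⟨u, hu, hu'⟩ := Subgroup.mem_map.1 x.2
      obtain ⟨w, hw, hw'⟩ := Subgroup.mem_map.1 y.2
      show (x : G ⧸ A) * y = y * x
      rw [← hu', ← hw', ← commutatorElement_eq_one_iff_mul_comm, ← map_commutatorElement, hπ1]
      exact hcommA u hu w hw) }
  letI : CommGroup A := { (inferInstance : Group A) with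
    mul_comm := fun x y => Subtype.ext (hA _ x.2 _ y.2) }
  have hlift : ∀ m : M, ∃ u, u ∈ F ∧ π u = m := fun m => Subgroup.mem_map.1 m.2
  choose o hoF hoπ using hlift
  have hdiff : ∀ u w, π u = π w → ∃ a ∈ A, w = u * a := fun u w h => by
    obtain ⟨a, ha, h'⟩ := (QuotientGroup.mk'_eq_mk' A).1 h
    exact ⟨a, ha, h'.symm⟩
  have hwl : ∀ u w y, π u = π w → y ∈ F → ⁅w, y⁆ = ⁅u, y⁆ := fun u w y h hy => by
    obtain ⟨a, ha, rfl⟩ := hdiff u w h
    exact commutatorElement_mem_centre_mul_left (hCA a ha y (hFC hy))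
  have hwr : ∀ u w x, π u = π w → x ∈ F → ⁅x, w⁆ = ⁅x, u⁆ := fun u w x h hx => by
    obtain ⟨a, ha, rfl⟩ := hdiff u w h
    exact commutatorElement_mem_centre_mul_right (hCA a ha x (hFC hx))
  have hmem : ∀ m n : M, ⁅o m, o n⁆ ∈ A := fun m n => hcommA _ (hoF m) _ (hoF n)
  let β₁ : M → (M →* A) := fun m => MonoidHom.mk' (fun n => (⟨⁅o m, o n⁆, hmem m n⟩ : A)) fun n n' => by
    refine Subtype.ext ?_
    show ⁅o m, o (n * n')⁆ = ⁅o m, o n⁆ * ⁅o m, o n'⁆
    rw [hwr (o n * o n') (o (n * n')) (o m) (by rw [map_mul, hoπ, hoπ, hoπ]; rfl) (hoF m)]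
    exact commutatorElement_mul_right_of_central (hCA _ (hmem m n') _ (hFC (hoF n))).symm
  let β : M →* M →* A := MonoidHom.mk' β₁ fun m m' => MonoidHom.ext fun n => Subtype.ext (by
    show ⁅o (m * m'), o n⁆ = ⁅o m, o n⁆ * ⁅o m', o n⁆
    rw [hwl (o m * o m') (o (m * m')) (o n) (by rw [map_mul, hoπ, hoπ, hoπ]; rfl) (hoF n)]
    exact commutatorElement_mul_left_of_central (hCA _ (hmem m' n) _ (hFC (hoF m))).symm
      (hA _ (hmem m n) _ (hmem m' n)))
  have hβ : ∀ u (hu : u ∈ F) w (hw : w ∈ F) (m n : M), π u = m → π w = n → (β m n : G) = ⁅u, w⁆ := by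
    intro u hu w hw m n hm hn
    show ⁅o m, o n⁆ = ⁅u, w⁆
    rw [hwl u (o m) (o n) (by rw [hm, hoπ]) (hoF n), hwr w (o n) u (by rw [hn, hoπ]) hu]
  have halt : ∀ m, β m m = 1 := fun m => Subtype.ext (commutatorElement_self _)
  have hndM : ∀ m, (∀ n, β m n = 1) → m = 1 := fun m h => by
    have h1 : o m ∈ A := hnd _ (hoF m) fun y hy => by
      rw [← hβ (o m) (hoF m) y hy m ⟨π y, y, hy, rfl⟩ (hoπ m) rfl, h]
      rfl
    exact Subtype.ext ((hoπ m).symm.trans ((hπ1 _).2 h1))
  let θ : G →* MulAut M := (MulAut.conjNormal : (G ⧸ A) →* MulAut M).comp π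
  have hθ : ∀ g m, π (g * o m * g⁻¹) = θ g m := fun g m => by
    rw [map_mul, map_mul, map_inv, hoπ]
    rfl
  have hβθ : ∀ g m n, (β (θ g m) (θ g n) : G) = g * (β m n : G) * g⁻¹ := fun g m n => by
    rw [hβ _ (hFn.conj_mem _ (hoF m) g) _ (hFn.conj_mem _ (hoF n) g) _ _ (hθ g m) (hθ g n)]
    show ⁅g * o m * g⁻¹, g * o n * g⁻¹⁆ = g * ⁅o m, o n⁆ * g⁻¹
    simp only [commutatorElement_def]; group
  have hiso : ∀ U : Subgroup M, (∀ g, ∀ u ∈ U, θ g u ∈ U) → (∀ u ∈ U, ∀ v ∈ U, β u v = 1) → U = ⊥ := by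
    intro U hU hU0
    set P := (U.map M.subtype).comap π with hP
    have hPF : P ≤ F := fun x hx => by
      obtain ⟨u, -, hu⟩ := Subgroup.mem_map.1 (Subgroup.mem_comap.1 hx)
      obtain ⟨a, ha, rfl⟩ := hdiff (o u) x ((hoπ u).trans hu)
      exact mul_mem (hoF u) (hAF ha)
    haveI : P.Normal := by
      refine ⟨fun x hx g => ?_⟩
      obtain ⟨u, hu, hux⟩ := Subgroup.mem_map.1 (Subgroup.mem_comap.1 hx)
      refine Subgroup.mem_comap.2 ⟨θ g u, hU g u hu, ?_⟩
      rw [map_mul, map_mul, map_inv, ← hux]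
      rfl
    have hPA : P = A := by
      refine hmax P inferInstance (fun x hx y hy => ?_) fun a ha => Subgroup.mem_comap.2 ?_
      · obtain ⟨u, hu, hux⟩ := Subgroup.mem_map.1 (Subgroup.mem_comap.1 hx)
        obtain ⟨w, hw, hwy⟩ := Subgroup.mem_map.1 (Subgroup.mem_comap.1 hy)
        refine commutatorElement_eq_one_iff_mul_comm.1 ?_
        rw [← hβ x (hPF hx) y (hPF hy) u w hux.symm hwy.symm, hU0 u hu w hw]
        rfl
      · rw [(hπ1 a).2 ha]; exact one_mem _
    refine (Subgroup.eq_bot_iff_forall U).2 fun u hu => ?_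
    have h1 : o u ∈ P := Subgroup.mem_comap.2 ⟨u, hu, (hoπ u).symm⟩
    rw [hPA] at h1
    exact Subtype.ext ((hoπ u).symm.trans ((hπ1 _).2 h1))
  have hsq : ∀ q : ℕ, q.Prime → ∀ x : M, x ^ (q ^ 2) = 1 → x ^ q = 1 := by
    intro q _ x hx
    have h := hiso (killedBy M q ⊓ (powMonoidHom q).range) (by
        rintro g u ⟨hu1, y, rfl⟩
        exact ⟨mem_killedBy.2 (by rw [← map_pow, mem_killedBy.1 hu1, map_one]), θ g y,
          (map_pow (θ g) y q).symm⟩) (by
        rintro u ⟨-, y, rfl⟩ v ⟨hv, -⟩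
        show β (y ^ q) v = 1
        rw [map_pow, MonoidHom.pow_apply, ← map_pow, mem_killedBy.1 hv, map_one])
    have h2 : x ^ q ∈ killedBy M q ⊓ (powMonoidHom q).range :=
      ⟨mem_killedBy.2 (by rw [← pow_mul, ← sq]; exact hx), x, rfl⟩
    rw [h] at h2
    exact h2
  -- matrix units
  let f : F →* Module.End (ZMod p) V := τ.comp F.subtype
  have hKc : ∀ z ∈ K.toSubring, ∀ e, z * f e = f e * z := fun z hz e =>
    (commute_spanAlg G.subtype (fun a ha => (hCA a ha e (hFC e.2)).symm) hz).eq.symm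
  obtain ⟨d, a', b', i₀, hidx, hzR, hba, hab, hone, hb0, hbb⟩ := exists_matrix_units (A.subgroupOf F) K.toSubring
    hK f (fun a ha => hτmem _ ha) hKc (fun x y => hcommA _ x.2 _ y.2) (fun x h => hnd x x.2 fun y hy =>
      hτinj ((h ⟨y, hy⟩).trans (map_one τ).symm))
  have hrel : A.relIndex F = d ^ 2 := hidx
  have hMcard : Nat.card M = d ^ 2 := by
    rw [← hrel, hMdef, ← Subgroup.relIndex_ker, hπ, QuotientGroup.ker_mk']
  have hd1 : 1 ≤ d := i₀.pos
  have hdim : s * d ≤ finrank (ZMod p) V := by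
    set W := LinearMap.range (b' i₀) with hWdef
    have hWfix : ∀ w : W, b' i₀ (w : V) = w := by
      rintro ⟨_, u, rfl⟩
      show b' i₀ (b' i₀ u) = b' i₀ u
      rw [← Module.End.mul_apply, hbb]
    let Φ : V ≃ₗ[ZMod p] (Fin d → W) :=
      { toFun := fun v i => ⟨b' i v, ⟨b' i v, by rw [← Module.End.mul_apply, hb0]⟩⟩
        map_add' := fun x y => funext fun i => Subtype.ext (map_add _ _ _)
        map_smul' := fun c x => funext fun i => Subtype.ext (map_smul _ _ _)
        invFun := fun w => ∑ i, a' i (w i)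
        left_inv := fun v => by
          show ∑ i, a' i (b' i v) = v
          simp only [← Module.End.mul_apply, ← LinearMap.sum_apply, hone, Module.End.one_apply]
        right_inv := fun w => funext fun i => Subtype.ext (by
          show b' i (∑ j, a' j (w j)) = w i
          rw [map_sum, Finset.sum_eq_single i]
          · rw [← Module.End.mul_apply, hba, hWfix]
          · intro j _ hne
            rw [← Module.End.mul_apply, hab i j (Ne.symm hne)]
            rfl
          · exact fun h => absurd (Finset.mem_univ _) h) }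
    have hn : finrank (ZMod p) V = d * finrank (ZMod p) W := by
      rw [LinearEquiv.finrank_eq Φ, Module.finrank_pi_fintype, Finset.sum_const, Finset.card_univ,
        Fintype.card_fin, smul_eq_mul]
    have hnV := Module.finrank_pos (R := ZMod p) (M := V)
    haveI : Nontrivial W := Module.nontrivial_of_finrank_pos (R := ZMod p) (Nat.pos_of_ne_zero fun h => by
      rw [hn, h, mul_zero] at hnV; exact lt_irrefl _ hnV)
    obtain ⟨w₀, hw₀⟩ := exists_ne (0 : W)
    have hKb : ∀ z ∈ K, z * b' i₀ = b' i₀ * z := fun z hz =>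
      (hzR z (hKc z hz) (fun c hc => (commute_in_spanAlg G.subtype hA hz hc).eq) i₀).2
    have hsm : s ≤ finrank (ZMod p) W := by
      refine LinearMap.finrank_le_finrank_of_injective (f := LinearMap.codRestrict W
        ((LinearMap.applyₗ (w₀ : V)).comp K.val.toLinearMap) fun z => ⟨(z : Module.End (ZMod p) V) w₀, by
          show b' i₀ ((z : Module.End (ZMod p) V) w₀) = (z : Module.End (ZMod p) V) w₀
          rw [← Module.End.mul_apply, ← hKb _ z.2, Module.End.mul_apply, hWfix]⟩) ?_
      refine (injective_iff_map_eq_zero _).2 fun x hx => ?_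
      by_contra hne
      obtain ⟨w, hw⟩ := hK.mul_inv_cancel hne
      rw [hK.mul_comm] at hw
      have h0 : (x : Module.End (ZMod p) V) (w₀ : V) = 0 := congrArg Subtype.val hx
      have := congrArg (fun z : K => (z : Module.End (ZMod p) V) (w₀ : V)) hw
      simp only [Subalgebra.coe_mul, Module.End.mul_apply, h0, map_zero, Subalgebra.coe_one, Module.End.one_apply] at this
      exact hw₀ (Subtype.ext this.symm)
    rw [hn, mul_comm s d]
    exact Nat.mul_le_mul_left d hsm
  -- the kernel of the action on the section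
  set K₀ := θ.ker ⊓ C with hK₀
  have hK₀A : ∀ g ∈ K₀, ∀ x ∈ F, ⁅g, x⁆ ∈ A := fun g hg x hx => by
    rw [← hπ1, map_commutatorElement, commutatorElement_def, mul_inv_eq_one]
    exact congrArg Subtype.val (DFunLike.congr_fun (MonoidHom.mem_ker.1 hg.1) (⟨π x, x, hx, rfl⟩ : M))
  have hK₀mem : ∀ g ∈ C, (∀ x ∈ F, ⁅g, x⁆ ∈ A) → g ∈ K₀ := fun g hg h => by
    refine ⟨MonoidHom.mem_ker.2 (MulEquiv.ext fun m => Subtype.ext ?_), hg⟩
    rw [← hθ]
    show π (g * o m * g⁻¹) = (m : G ⧸ A)
    rw [show g * o m * g⁻¹ = ⁅g, o m⁆ * o m by rw [commutatorElement_def]; group, map_mul,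
      (hπ1 _).2 (h _ (hoF m)), one_mul, hoπ]
  let χ : K₀ →* (M →* A) := MonoidHom.mk' (fun g => MonoidHom.mk' (fun m => (⟨⁅(g : G), o m⁆, hK₀A g g.2 _ (hoF m)⟩ : A))
    fun m m' => Subtype.ext (by
      show ⁅(g : G), o (m * m')⁆ = ⁅(g : G), o m⁆ * ⁅(g : G), o m'⁆
      obtain ⟨a, ha, hae⟩ := hdiff (o m * o m') (o (m * m')) (by rw [map_mul, hoπ, hoπ, hoπ]; rfl)
      rw [hae, commutatorElement_mem_centre_mul_right (hCA a ha _ g.2.2)]
      exact commutatorElement_mul_right_of_central (hCA _ (hK₀A g g.2 _ (hoF m')) _ (hFC (hoF m))).symm))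
    fun g h => MonoidHom.ext fun m => Subtype.ext (by
      show ⁅(g : G) * (h : G), o m⁆ = ⁅(g : G), o m⁆ * ⁅(h : G), o m⁆
      exact commutatorElement_mul_left_of_central (hCA _ (hK₀A h h.2 _ (hoF m)) _ g.2.2).symm
        (hA _ (hK₀A g g.2 _ (hoF m)) _ (hK₀A h h.2 _ (hoF m))))
  have hχker : χ.ker = A.subgroupOf K₀ := by
    ext g
    rw [MonoidHom.mem_ker, Subgroup.mem_subgroupOf]
    constructor
    · intro h
      refine hCF ⟨g.2.2, Subgroup.mem_centralizer_iff.2 fun y hy => ?_⟩
      obtain ⟨a, ha, hya⟩ := hdiff (o ⟨π y, y, hy, rfl⟩) y (hoπ _)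
      have h1 : ⁅(g : G), o ⟨π y, y, hy, rfl⟩⁆ = 1 :=
        congrArg Subtype.val (DFunLike.congr_fun h (⟨π y, y, hy, rfl⟩ : M))
      rw [← commutatorElement_mem_centre_mul_right (hCA a ha _ g.2.2), ← hya] at h1
      exact (commutatorElement_eq_one_iff_mul_comm.1 h1).symm
    · intro ha
      exact MonoidHom.ext fun m => Subtype.ext (commutatorElement_eq_one_iff_mul_comm.2
        (hCA _ ha _ (hFC (hoF m))))
  have hAK₀ : A.relIndex K₀ ≤ Nat.card M := by
    show (A.subgroupOf K₀).index ≤ _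
    rw [← hχker, Subgroup.index_ker]
    haveI : Finite (M →* A) := Finite.of_injective (fun f => (f : M → A)) DFunLike.coe_injective
    exact (Subgroup.card_le_card_group _).trans (card_monoidHom_le M A)
  have hFK₀ : F ≤ K₀ := fun x hx => hK₀mem x (hFC hx) fun y hy => hcommA x hx y hy
  have hK₀F : K₀ ≤ F := by
    rw [← Subgroup.relIndex_eq_one]
    have h := Subgroup.relIndex_mul_relIndex A F K₀ hAF hFK₀
    rw [hrel, ← hMcard] at h
    have hpos : F.relIndex K₀ ≠ 0 := Subgroup.index_ne_zero_of_finite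
    have hM0 : 0 < Nat.card M := Nat.card_pos
    rw [← h] at hAK₀
    nlinarith [Nat.one_le_iff_ne_zero.2 hpos]
  refine ⟨A, F, s, d, hAn, hFn, hA, hAF, hFC, hs1, hd1, hdim, hcyc, hAcard, hindex, ?_, hrel, hcommA,
    fun g hg h => hK₀F (hK₀mem g hg h), ?_, ?_, fun B => hmax B⟩
  · rw [← Subgroup.relIndex_mul_relIndex A K₀ C (hAF.trans hFK₀) inf_le_right, hK₀, Subgroup.inf_relIndex_right,
      Subgroup.relIndex_ker]
    refine Nat.mul_le_mul ?_ ?_
    · exact hAK₀.trans_eq hMcard
    refine card_map_pairing hsq ?_ β halt hndM θ C ?_ ?_ hiso hMcard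
    · intro q hq
      letI := Fintype.ofFinite A
      rw [Nat.card_eq_fintype_card]
      refine le_trans (le_of_eq ?_) (IsCyclic.card_pow_eq_one_le (α := A) hq.pos)
      rw [← Fintype.card_coe]
      exact Fintype.card_congr (Equiv.subtypeEquivRight fun x => by simp [mem_killedBy])
    · intro g hg m n
      refine Subtype.ext ((hβθ g m n).trans ?_)
      rw [← hCA _ (β m n).2 g hg, mul_inv_cancel_right]
    · intro g m n h
      refine Subtype.ext ((hβθ g m n).trans ?_)
      rw [h, Subgroup.coe_one, mul_one, mul_inv_cancel]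
  · intro q hq x hx hxq
    have h1 : (⟨π x, x, hx, rfl⟩ : M) ^ (q ^ 2) = 1 := Subtype.ext (by
      rw [SubgroupClass.coe_pow, ← map_pow]; exact (hπ1 _).2 hxq)
    have h2 := congrArg Subtype.val (hsq q hq _ h1)
    rw [SubgroupClass.coe_pow, ← map_pow] at h2
    exact (hπ1 _).1 h2
  · intro q hq hqd
    haveI := Fact.mk hq
    obtain ⟨m, hm⟩ := exists_prime_orderOf_dvd_card' (G := M) q (hMcard ▸ dvd_pow hqd two_ne_zero)
    obtain ⟨n, hn⟩ : ∃ n, β m n ≠ 1 := by
      by_contra! h
      have h1 := hndM m h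
      rw [h1, orderOf_one] at hm
      exact hq.ne_one hm.symm
    have h2 : orderOf (β m n) = q := orderOf_eq_prime
      (by rw [← MonoidHom.pow_apply, ← map_pow, ← hm, pow_orderOf_eq_one, map_one, MonoidHom.one_apply]) hn
    rw [← h2]
    exact orderOf_dvd_natCard _

end CfsgLib.Coprime.ClassLower
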