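import Cfsg.Agent.Lib.Char.Berger.Blocks
import Cfsg.Agent.Lib.Coprime.ClassLower.Prim

/-!
# Systems of blocks of an irreducible linear group
-/

set_option autoImplicit false
set_option linter.unusedSectionVars false
set_option linter.style.haveILetI false

namespace CfsgLib.Coprime.ClassLower

open Module CfsgLib.Char CfsgLib.Char.Berger

universe v

variable {p : ℕ} [Fact p.Prime] {V : Type v} [AddCommGroup V] [Module (ZMod p) V] [Finite V]

/-- a system of blocks -/
structure IsSys (G : Subgroup (V ≃ₗ[ZMod p] V)) (S : Finset (Submodule (ZMod p) V)) : Prop where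
  stable : ∀ g ∈ G, ∀ W ∈ S, moveSub g W ∈ S
  ne_bot : ∀ W ∈ S, W ≠ ⊥
  sup_eq : S.sup id = ⊤
  sum_le : ∑ W ∈ S, finrank (ZMod p) W ≤ finrank (ZMod p) V

theorem moveSub_one (W : Submodule (ZMod p) V) : moveSub (1 : V ≃ₗ[ZMod p] V) W = W := Submodule.map_id W

theorem moveSub_mul (g h : V ≃ₗ[ZMod p] V) (W : Submodule (ZMod p) V) :
    moveSub (g * h) W = moveSub g (moveSub h W) := (Submodule.map_comp _ _ _)

theorem moveSub_inv_eq {g : V ≃ₗ[ZMod p] V} {W U : Submodule (ZMod p) V} (h : moveSub g W = U) :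
    moveSub g⁻¹ U = W := by rw [← h, ← moveSub_mul, inv_mul_cancel, moveSub_one]

theorem finrank_moveSub (g : V ≃ₗ[ZMod p] V) (W : Submodule (ZMod p) V) :
    finrank (ZMod p) (moveSub g W) = finrank (ZMod p) W := LinearEquiv.finrank_map_eq g W

theorem finrank_sup_le_sum (S : Finset (Submodule (ZMod p) V)) :
    finrank (ZMod p) (S.sup id : Submodule (ZMod p) V) ≤ ∑ W ∈ S, finrank (ZMod p) W := by
  classical
  induction S using Finset.induction_on with
  | empty => simp
  | @insert a s ha ih =>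
    rw [Finset.sup_insert, Finset.sum_insert ha]
    exact (Submodule.finrank_add_le_finrank_add_finrank _ _).trans (Nat.add_le_add_left ih _)

theorem inv_sup {G : Subgroup (V ≃ₗ[ZMod p] V)} {S : Finset (Submodule (ZMod p) V)}
    (h : ∀ g ∈ G, ∀ W ∈ S, moveSub g W ∈ S) : Inv G (S.sup id) := by
  intro g hg v hv
  have h1 : S.sup id ≤ (S.sup id).comap g.toLinearMap := Finset.sup_le fun W hW w hw =>
    (Finset.le_sup (f := id) (h g hg W hW) : moveSub g W ≤ S.sup id) ⟨w, hw, rfl⟩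
  exact h1 hv

theorem sup_eq_top {G : Subgroup (V ≃ₗ[ZMod p] V)} (hi : Irr G) {S : Finset (Submodule (ZMod p) V)}
    (h : ∀ g ∈ G, ∀ W ∈ S, moveSub g W ∈ S) {W : Submodule (ZMod p) V} (hW : W ∈ S) (h0 : W ≠ ⊥) :
    S.sup id = ⊤ :=
  (hi _ (inv_sup h)).resolve_left fun hb => h0 (le_bot_iff.1 (hb ▸ Finset.le_sup (f := id) hW))

theorem IsSys.top [Nontrivial V] (G : Subgroup (V ≃ₗ[ZMod p] V)) : IsSys G {⊤} := by
  refine ⟨fun g _ W hW => ?_, fun W hW => ?_, by simp, by simp⟩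
  · rw [Finset.mem_singleton] at hW ⊢
    rw [hW]
    exact Submodule.map_top g.toLinearMap |>.trans (LinearEquiv.range g)
  · rw [Finset.mem_singleton] at hW
    rw [hW]; exact top_ne_bot

variable {G : Subgroup (V ≃ₗ[ZMod p] V)}

theorem IsSys.nonempty [Nontrivial V] {S : Finset (Submodule (ZMod p) V)} (h : IsSys G S) : S.Nonempty := by
  rcases S.eq_empty_or_nonempty with rfl | hn
  · exact absurd (Finset.sup_empty.symm.trans h.sup_eq) bot_ne_top
  · exact hn

/-- the group is transitive on the blocks -/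
theorem IsSys.props (hi : Irr G) {S : Finset (Submodule (ZMod p) V)} (h : IsSys G S)
    {W₀ : Submodule (ZMod p) V} (h0 : W₀ ∈ S) :
    (∀ W ∈ S, ∃ g ∈ G, moveSub g W₀ = W) ∧ (∀ W ∈ S, finrank (ZMod p) W = finrank (ZMod p) W₀) ∧
      S.card * finrank (ZMod p) W₀ = finrank (ZMod p) V := by
  classical
  have htr : ∀ W ∈ S, ∃ g ∈ G, moveSub g W₀ = W := by
    set S₀ := S.filter fun W => ∃ g ∈ G, moveSub g W₀ = W with hS₀
    have htop : S₀.sup id = ⊤ := by
      refine sup_eq_top hi (fun g hg W hW => ?_) (Finset.mem_filter.2 ⟨h0, 1, one_mem G, moveSub_one _⟩)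
        (h.ne_bot _ h0)
      obtain ⟨hWS, g', hg', rfl⟩ := Finset.mem_filter.1 hW
      exact Finset.mem_filter.2 ⟨h.stable g hg _ hWS, g * g', mul_mem hg hg', moveSub_mul _ _ _⟩
    have h1 := finrank_sup_le_sum S₀
    rw [htop, finrank_top] at h1
    intro W hW
    by_contra hne
    have h2 : finrank (ZMod p) W + ∑ U ∈ S₀, finrank (ZMod p) U ≤ ∑ U ∈ S, finrank (ZMod p) U := by
      rw [← Finset.sum_insert (f := fun U : Submodule (ZMod p) V => finrank (ZMod p) U)
        (fun hm : W ∈ S₀ => hne (Finset.mem_filter.1 hm).2)]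
      exact Finset.sum_le_sum_of_subset (Finset.insert_subset hW (Finset.filter_subset _ _))
    have h3 := h.sum_le
    exact h.ne_bot W hW (Submodule.finrank_eq_zero.1 (by omega))
  have hrk : ∀ W ∈ S, finrank (ZMod p) W = finrank (ZMod p) W₀ := fun W hW => by
    obtain ⟨g, -, rfl⟩ := htr W hW
    exact finrank_moveSub g W₀
  refine ⟨htr, hrk, ?_⟩
  have h1 := finrank_sup_le_sum S
  rw [h.sup_eq, finrank_top] at h1
  rw [← smul_eq_mul, ← Finset.sum_const, ← Finset.sum_congr rfl hrk]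
  exact le_antisymm h.sum_le h1

/-- the decomposition along the blocks is unique -/
theorem IsSys.unique {S : Finset (Submodule (ZMod p) V)} (h : IsSys G S)
    {x y : ∀ W : S, (W : Submodule (ZMod p) V)} (hxy : ∑ W, (x W : V) = ∑ W, (y W : V)) : x = y := by
  classical
  haveI : FiniteDimensional (ZMod p) V := Module.Finite.of_finite
  let L : (∀ W : S, (W : Submodule (ZMod p) V)) →ₗ[ZMod p] V :=
    ∑ W : S, (W : Submodule (ZMod p) V).subtype.comp (LinearMap.proj W)
  have hL : ∀ x, L x = ∑ W : S, (x W : V) := fun x => by simp [L, LinearMap.sum_apply]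
  have hsurj : Function.Surjective L := by
    rw [← LinearMap.range_eq_top, eq_top_iff, ← h.sup_eq]
    refine Finset.sup_le fun W hW w hw => ⟨Pi.single (⟨W, hW⟩ : S) ⟨w, hw⟩, ?_⟩
    rw [hL, Finset.sum_eq_single (⟨W, hW⟩ : S) (fun b _ hb => by rw [Pi.single_eq_of_ne hb]; rfl)
      (fun hm => absurd (Finset.mem_univ _) hm), Pi.single_eq_same]
  have hle : finrank (ZMod p) (∀ W : S, (W : Submodule (ZMod p) V)) ≤ finrank (ZMod p) V := by
    rw [Module.finrank_pi_fintype, Finset.sum_coe_sort S fun W => finrank (ZMod p) W]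
    exact h.sum_le
  have heq := le_antisymm hle (LinearMap.finrank_le_finrank_of_surjective hsurj)
  exact (LinearMap.injective_iff_surjective_of_finrank_eq_finrank heq).2 hsurj (by rw [hL, hL, hxy])

/-- a linear map that fixes every block pointwise is the identity -/
theorem IsSys.eq_one {S : Finset (Submodule (ZMod p) V)} (h : IsSys G S) (g : V ≃ₗ[ZMod p] V)
    (hg : ∀ W ∈ S, ∀ w ∈ W, g w = w) : g = 1 := by
  refine LinearEquiv.ext fun v => ?_
  have h1 : S.sup id ≤ LinearMap.eqLocus g.toLinearMap LinearMap.id := Finset.sup_le fun W hW w hw => hg W hW w hw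
  exact h1 (h.sup_eq ▸ Submodule.mem_top)

/-- non-field spans give a system of at least two blocks -/
theorem field_or_system [Nontrivial V] {G : Subgroup (V ≃ₗ[ZMod p] V)} (hi : Irr G) (A : Subgroup G) [A.Normal]
    (hA : ∀ a ∈ A, ∀ b ∈ A, a * b = b * a) :
    IsField (spanAlg G.subtype A) ∨ ∃ S, IsSys G S ∧ 2 ≤ S.card := by
  classical
  by_cases hid : ∀ e ∈ spanAlg G.subtype A, e * e = e → e = 0 ∨ e = 1
  · exact Or.inl (span_isField_of_idem A hA (fun x hx hn => span_reduced hi A hA hx hn) hid)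
  refine Or.inr ?_
  push Not at hid
  obtain ⟨e₁, he₁, hee₁, he₁0, he₁1⟩ := hid
  haveI := finite_moduleEnd (q := p) (V := V)
  haveI := Fintype.ofFinite (Module.End (ZMod p) V)
  haveI : Finite (Submodule (ZMod p) V) := Finite.of_injective (fun W => (W : Set V)) SetLike.coe_injective
  let IP : Module.End (ZMod p) V → Prop := fun e => e ∈ spanAlg G.subtype A ∧ e * e = e ∧ e ≠ 0
  let Mn : Module.End (ZMod p) V → Prop := fun e => IP e ∧ ∀ f, IP f → f * e = f → f = e
  have hcm : ∀ {x y}, x ∈ spanAlg G.subtype A → y ∈ spanAlg G.subtype A → x * y = y * x := fun hx hy =>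
    (commute_in_spanAlg G.subtype hA hx hy).eq
  have hIPc : ∀ g e, IP e → IP (conjEnd G.subtype g e) := by
    rintro g e ⟨h1, h2, h3⟩
    refine ⟨conjEnd_mem_spanAlg G.subtype g h1, by rw [← map_mul, h2], fun h => h3 ?_⟩
    have h' := congrArg (conjEnd G.subtype g⁻¹) h
    rwa [← conjEnd_mul, inv_mul_cancel, conjEnd_one, map_zero] at h'
  have hMc : ∀ g e, Mn e → Mn (conjEnd G.subtype g e) := by
    rintro g e ⟨h1, h2⟩
    refine ⟨hIPc g e h1, fun f hf hfe => ?_⟩
    have h' := h2 _ (hIPc g⁻¹ f hf) (by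
      have := congrArg (conjEnd G.subtype g⁻¹) hfe
      rwa [map_mul, ← conjEnd_mul, inv_mul_cancel, conjEnd_one] at this)
    rw [← h', ← conjEnd_mul, mul_inv_cancel, conjEnd_one]
  -- a primitive idempotent below `e₁`
  have hex : ∃ e, Mn e ∧ e * e₁ = e := by
    obtain ⟨e, he, hemin⟩ := Finset.exists_min_image
      (Finset.univ.filter fun e => IP e ∧ e * e₁ = e) (fun e => Nat.card (LinearMap.range e))
      ⟨e₁, Finset.mem_filter.2 ⟨Finset.mem_univ _, ⟨he₁, hee₁, he₁0⟩, hee₁⟩⟩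
    obtain ⟨-, hIe, hee⟩ := Finset.mem_filter.1 he
    refine ⟨e, ⟨hIe, fun f hf hfe => ?_⟩, hee⟩
    have hfe₁ : f * e₁ = f := by rw [← hfe, mul_assoc, hee]
    have h1 := hemin f (Finset.mem_filter.2 ⟨Finset.mem_univ _, hf, hfe₁⟩)
    have hef : e * f = f := by rw [hcm hIe.1 hf.1, hfe]
    have hle : LinearMap.range f ≤ LinearMap.range e := by
      rintro _ ⟨v, rfl⟩
      exact ⟨f v, by rw [← Module.End.mul_apply, hef]⟩
    have heq : (LinearMap.range f : Set V) = LinearMap.range e :=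
      Set.eq_of_subset_of_ncard_le hle (by rw [← Nat.card_coe_set_eq, ← Nat.card_coe_set_eq]; exact h1) (Set.toFinite _)
    refine LinearMap.ext fun v => ?_
    obtain ⟨u, hu⟩ : e v ∈ (LinearMap.range f : Set V) := heq ▸ ⟨v, rfl⟩
    have h2 : f (e v) = e v := by rw [← hu, ← Module.End.mul_apply, hf.2.1]
    rw [← h2, ← Module.End.mul_apply, hfe]
  obtain ⟨e₀, he₀, he₀₁⟩ := hex
  let O : Finset (Module.End (ZMod p) V) := Finset.univ.filter fun e => ∃ g : G, conjEnd G.subtype g e₀ = e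
  have hO : ∀ {e}, e ∈ O ↔ ∃ g : G, conjEnd G.subtype g e₀ = e := fun {e} => by simp [O]
  have hOM : ∀ e ∈ O, Mn e := fun e he => by obtain ⟨g, rfl⟩ := hO.1 he; exact hMc g _ he₀
  have horth : ∀ a ∈ O, ∀ b ∈ O, a ≠ b → a * b = 0 := by
    intro a ha b hb hne
    by_contra h0
    have ha' := hOM a ha
    have hb' := hOM b hb
    have hab := hcm ha'.1.1 hb'.1.1
    have hI : IP (a * b) := ⟨mul_mem ha'.1.1 hb'.1.1, by
      rw [mul_assoc, ← mul_assoc b a b, ← hab, mul_assoc a b b, hb'.1.2.1, ← mul_assoc, ha'.1.2.1], h0⟩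
    have h1 := ha'.2 _ hI (by rw [hab, mul_assoc, ha'.1.2.1])
    have h2 := hb'.2 _ hI (by rw [mul_assoc, hb'.1.2.1])
    exact hne (h1.symm.trans h2)
  set s := ∑ e ∈ O, e with hs
  have hstab : ∀ (g : G), ∀ e ∈ O, conjEnd G.subtype g e ∈ O := fun g e he => by
    obtain ⟨h, rfl⟩ := hO.1 he
    exact hO.2 ⟨g * h, conjEnd_mul _ _ _ _⟩
  have hsconj : ∀ g : G, conjEnd G.subtype g s = s := fun g => by
    rw [hs, map_sum]
    refine Finset.sum_bij' (fun e _ => conjEnd G.subtype g e) (fun e _ => conjEnd G.subtype g⁻¹ e)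
      (fun e he => hstab g e he) (fun e he => hstab g⁻¹ e he) (fun e _ => ?_) (fun e _ => ?_) fun e _ => rfl
    · rw [← conjEnd_mul, inv_mul_cancel, conjEnd_one]
    · rw [← conjEnd_mul, mul_inv_cancel, conjEnd_one]
  have he₀O : e₀ ∈ O := hO.2 ⟨1, conjEnd_one _ _⟩
  have hse : ∀ e ∈ O, e * s = e := fun e he => by
    rw [hs, Finset.mul_sum, Finset.sum_eq_single_of_mem e he fun b hb hne => horth e he b hb (Ne.symm hne)]
    exact (hOM e he).1.2.1
  have hs2 : s * s = s := by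
    conv_lhs => arg 1; rw [hs]
    rw [Finset.sum_mul, Finset.sum_congr rfl hse]
  have hrange : LinearMap.range s = ⊤ := by
    refine (hi _ fun g hg w hw => ?_).resolve_left fun h => he₀.1.2.2 ?_
    · obtain ⟨v, rfl⟩ := hw
      refine ⟨g v, ?_⟩
      have h1 := conjEnd_apply_smul G.subtype (⟨g, hg⟩ : G) s v
      rw [hsconj] at h1
      exact h1
    · rw [← hse e₀ he₀O, LinearMap.range_eq_bot.1 h, mul_zero]
  have hs1 : s = 1 := LinearMap.ext fun v => by
    obtain ⟨u, hu⟩ := LinearMap.range_eq_top.1 hrange v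
    rw [← hu, ← Module.End.mul_apply, hs2, Module.End.one_apply]
  haveI : DecidableEq (Submodule (ZMod p) V) := Classical.decEq _
  have hinjO : Set.InjOn LinearMap.range (O : Set (Module.End (ZMod p) V)) := by
    intro a ha b hb hab
    by_contra hne
    refine (hOM b hb).1.2.2 (LinearMap.ext fun v => ?_)
    obtain ⟨u, hu⟩ : b v ∈ LinearMap.range a := hab ▸ ⟨v, rfl⟩
    rw [LinearMap.zero_apply, ← hu, ← (hOM a ha).1.2.1, Module.End.mul_apply, hu, ← Module.End.mul_apply,
      horth a ha b hb hne]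
    rfl
  refine ⟨O.image LinearMap.range, ⟨fun g hg W hW => ?_, fun W hW => ?_, ?_, ?_⟩, ?_⟩
  · obtain ⟨e, he, rfl⟩ := Finset.mem_image.1 hW
    refine Finset.mem_image.2 ⟨conjEnd G.subtype (⟨g, hg⟩ : G) e, hstab _ e he, le_antisymm ?_ ?_⟩
    · rintro _ ⟨v, rfl⟩
      exact ⟨e (toEndHom G.subtype (⟨g, hg⟩ : G)⁻¹ v), ⟨_, rfl⟩, rfl⟩
    · rintro _ ⟨_, ⟨v, rfl⟩, rfl⟩
      exact ⟨g v, conjEnd_apply_smul G.subtype (⟨g, hg⟩ : G) e v⟩
  · obtain ⟨e, he, rfl⟩ := Finset.mem_image.1 hW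
    exact fun h => (hOM e he).1.2.2 (LinearMap.range_eq_bot.1 h)
  · refine eq_top_iff.2 fun v _ => ?_
    rw [show v = ∑ e ∈ O, e v by rw [← LinearMap.sum_apply, ← hs, hs1, Module.End.one_apply]]
    exact Submodule.sum_mem _ fun e he =>
      (Finset.le_sup (f := id) (Finset.mem_image_of_mem LinearMap.range he) :
        LinearMap.range e ≤ (O.image LinearMap.range).sup id) ⟨v, rfl⟩
  · rw [Finset.sum_image hinjO]
    haveI : FiniteDimensional (ZMod p) V := Module.Finite.of_finite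
    let Φ : (∀ e : ↥O, LinearMap.range (e : Module.End (ZMod p) V)) →ₗ[ZMod p] V :=
      ∑ e : ↥O, (LinearMap.range (e : Module.End (ZMod p) V)).subtype.comp (LinearMap.proj e)
    have hΦ : Function.Injective Φ := (injective_iff_map_eq_zero Φ).2 fun w hw => funext fun e => Subtype.ext (by
      have h1 := congrArg (e : Module.End (ZMod p) V) hw
      rw [map_zero, LinearMap.sum_apply, map_sum, Finset.sum_eq_single e] at h1
      · obtain ⟨u, hu⟩ := (w e).2
        have h2 : (e : Module.End (ZMod p) V) (w e : V) = 0 := h1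
        rw [← hu, ← Module.End.mul_apply, (hOM e e.2).1.2.1, hu] at h2
        exact h2
      · intro f _ hne
        obtain ⟨u, hu⟩ := (w f).2
        show (e : Module.End (ZMod p) V) (w f : V) = 0
        rw [← hu, ← Module.End.mul_apply, horth e e.2 f f.2 fun h => hne (Subtype.ext h).symm]
        rfl
      · exact fun h => absurd (Finset.mem_univ _) h)
    have h1 := LinearMap.finrank_le_finrank_of_injective hΦ
    rwa [Module.finrank_pi_fintype, Finset.sum_coe_sort O fun e => finrank (ZMod p) (LinearMap.range e)] at h1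
  · rw [Finset.card_image_of_injOn hinjO]
    by_contra hlt
    have h1 : O = {e₀} := (Finset.eq_singleton_iff_unique_mem).2 ⟨he₀O, fun e he => by
      by_contra hne
      exact hlt (Finset.one_lt_card.2 ⟨e, he, e₀, he₀O, hne⟩)⟩
    have : e₀ = 1 := by rw [← hs1, hs, h1, Finset.sum_singleton]
    rw [this, one_mul] at he₀₁
    exact he₁1 he₀₁

/-- the stabiliser of a subspace -/
def stab (G : Subgroup (V ≃ₗ[ZMod p] V)) (W : Submodule (ZMod p) V) : Subgroup (V ≃ₗ[ZMod p] V) where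
  carrier := {g | g ∈ G ∧ moveSub g W = W}
  one_mem' := ⟨one_mem G, moveSub_one W⟩
  mul_mem' := fun {a b} ha hb => ⟨mul_mem ha.1 hb.1, by rw [moveSub_mul, hb.2, ha.2]⟩
  inv_mem' := fun {a} ha => ⟨inv_mem ha.1, moveSub_inv_eq ha.2⟩

theorem inv_stab (G : Subgroup (V ≃ₗ[ZMod p] V)) (W : Submodule (ZMod p) V) : Inv (stab G W) W :=
  fun g hg w hw => by
    have : g w ∈ moveSub g W := ⟨w, hw, rfl⟩
    rwa [hg.2] at this

/-- translates of a stable family inside one block -/
theorem translates [Nontrivial V] (hi : Irr G) {S : Finset (Submodule (ZMod p) V)} (h : IsSys G S)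
    {W₀ : Submodule (ZMod p) V} (h0 : W₀ ∈ S) (T : Finset (Submodule (ZMod p) V))
    (hne : T.Nonempty) (hbot : ∀ U ∈ T, U ≠ ⊥) (hstab : ∀ g ∈ stab G W₀, ∀ U ∈ T, moveSub g U ∈ T) :
    ∃ S₂ : Finset (Submodule (ZMod p) V), (∀ g ∈ G, ∀ W ∈ S₂, moveSub g W ∈ S₂) ∧ (∀ W ∈ S₂, W ≠ ⊥) ∧
      (∀ W ∈ S₂, ∃ g ∈ G, ∃ U ∈ T, moveSub g U = W) ∧ S₂.sup id = ⊤ ∧ T ⊆ S₂ ∧
      ∑ W ∈ S₂, finrank (ZMod p) W ≤ S.card * ∑ U ∈ T, finrank (ZMod p) U := by
  classical
  obtain ⟨htr, -, -⟩ := h.props hi h0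
  choose c hcG hc using htr
  let f : {W // W ∈ S} × Submodule (ZMod p) V → Submodule (ZMod p) V := fun z => moveSub (c z.1.1 z.1.2) z.2
  set S₂ := (S.attach ×ˢ T).image f with hS₂
  have hT : ∀ g ∈ G, ∀ W (hW : W ∈ S), moveSub g W₀ = W → ∀ U ∈ T, moveSub g U ∈ S₂ := by
    intro g hg W hW hgW U hU
    have hm : (c W hW)⁻¹ * g ∈ stab G W₀ :=
      ⟨mul_mem (inv_mem (hcG W hW)) hg, by rw [moveSub_mul, hgW, moveSub_inv_eq (hc W hW)]⟩
    refine Finset.mem_image.2 ⟨(⟨W, hW⟩, moveSub ((c W hW)⁻¹ * g) U),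
      Finset.mem_product.2 ⟨Finset.mem_attach _ _, hstab _ hm U hU⟩, ?_⟩
    show moveSub (c W hW) _ = _
    rw [← moveSub_mul, mul_inv_cancel_left]
  have hstable : ∀ g ∈ G, ∀ W ∈ S₂, moveSub g W ∈ S₂ := by
    intro g hg W hW
    obtain ⟨⟨⟨W', hW'⟩, U⟩, hm, rfl⟩ := Finset.mem_image.1 hW
    show moveSub g (moveSub (c W' hW') U) ∈ S₂
    rw [← moveSub_mul]
    exact hT _ (mul_mem hg (hcG W' hW')) (moveSub g W') (h.stable g hg W' hW') (by rw [moveSub_mul, hc])
      U (Finset.mem_product.1 hm).2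
  have hb : ∀ W ∈ S₂, W ≠ ⊥ := by
    intro W hW
    obtain ⟨⟨⟨W', hW'⟩, U⟩, hm, rfl⟩ := Finset.mem_image.1 hW
    intro hbt
    refine hbot U (Finset.mem_product.1 hm).2 (Submodule.finrank_eq_zero.1 ?_)
    rw [← finrank_moveSub (c W' hW') U]
    exact Submodule.finrank_eq_zero.2 hbt
  have hTS : T ⊆ S₂ := fun U hU => by
    have := hT 1 (one_mem G) W₀ h0 (moveSub_one _) U hU
    rwa [moveSub_one] at this
  refine ⟨S₂, hstable, hb, fun W hW => ?_, ?_, hTS, ?_⟩
  · obtain ⟨⟨⟨W', hW'⟩, U⟩, hm, rfl⟩ := Finset.mem_image.1 hW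
    exact ⟨_, hcG W' hW', U, (Finset.mem_product.1 hm).2, rfl⟩
  · obtain ⟨U, hU⟩ := hne
    exact sup_eq_top hi hstable (hTS hU) (hbot U hU)
  · refine (Finset.sum_image_le_of_nonneg fun u _ => Nat.zero_le _).trans (le_of_eq ?_)
    rw [Finset.sum_product]
    simp only [f, finrank_moveSub, Finset.sum_const, Finset.card_attach, smul_eq_mul]

/-- the group induced on a block is irreducible -/
theorem irr_block [Nontrivial V] (hi : Irr G) {S : Finset (Submodule (ZMod p) V)} (h : IsSys G S)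
    {W₀ : Submodule (ZMod p) V} (h0 : W₀ ∈ S) : Irr (resHom (inv_stab G W₀)).range := by
  classical
  haveI : FiniteDimensional (ZMod p) V := Module.Finite.of_finite
  obtain ⟨-, -, hcard⟩ := h.props hi h0
  intro U hU
  by_contra! hne
  obtain ⟨S₂, -, -, -, htop, -, hsum⟩ := translates hi h h0 {U.map W₀.subtype} (Finset.singleton_nonempty _)
    (fun X hX => by
      rw [Finset.mem_singleton] at hX
      rw [hX]
      exact fun hb => hne.1 (Submodule.map_injective_of_injective W₀.subtype_injective (hb.trans (Submodule.map_bot _).symm)))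
    (fun g hg X hX => by
      rw [Finset.mem_singleton] at hX ⊢
      rw [hX]
      refine Submodule.eq_of_le_of_finrank_le ?_ (finrank_moveSub g _).ge
      rintro _ ⟨_, ⟨u, hu, rfl⟩, rfl⟩
      exact ⟨_, hU _ ⟨⟨g, hg⟩, rfl⟩ u hu, rfl⟩)
  have h1 := finrank_sup_le_sum S₂
  rw [htop, finrank_top] at h1
  rw [Finset.sum_singleton, Submodule.finrank_map_subtype_eq] at hsum
  have h2 := Submodule.finrank_lt hne.2
  have h3 : 0 < S.card := Finset.card_pos.2 ⟨W₀, h0⟩
  nlinarith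

/-- a system on a block refines the system -/
theorem refine_sys [Nontrivial V] (hi : Irr G) {S : Finset (Submodule (ZMod p) V)} (h : IsSys G S)
    {W₀ : Submodule (ZMod p) V} (h0 : W₀ ∈ S) {T : Finset (Submodule (ZMod p) W₀)}
    (hT : IsSys (resHom (inv_stab G W₀)).range T) (hT2 : 2 ≤ T.card) : ∃ S₂, IsSys G S₂ ∧ S.card < S₂.card := by
  classical
  haveI : Nontrivial W₀ := Submodule.nontrivial_iff_ne_bot.2 (h.ne_bot _ h0)
  obtain ⟨-, -, hcard⟩ := h.props hi h0
  obtain ⟨U₀, hU₀⟩ := hT.nonempty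
  obtain ⟨-, hrkT, hcardT⟩ := hT.props (irr_block hi h h0) hU₀
  have hinj : Function.Injective (Submodule.map W₀.subtype) :=
    Submodule.map_injective_of_injective W₀.subtype_injective
  obtain ⟨S₂, hstable, hb, hfrom, htop, hTS, hsum⟩ := translates hi h h0 (T.image (Submodule.map W₀.subtype))
    (Finset.Nonempty.image ⟨U₀, hU₀⟩ _)
    (fun X hX => by
      obtain ⟨U, hU, rfl⟩ := Finset.mem_image.1 hX
      exact fun hbt => hT.ne_bot U hU (hinj (hbt.trans (Submodule.map_bot _).symm)))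
    (fun g hg X hX => by
      obtain ⟨U, hU, rfl⟩ := Finset.mem_image.1 hX
      refine Finset.mem_image.2 ⟨moveSub (resHom (inv_stab G W₀) ⟨g, hg⟩) U,
        hT.stable _ ⟨⟨g, hg⟩, rfl⟩ U hU, ?_⟩
      show Submodule.map _ (Submodule.map _ U) = Submodule.map _ (Submodule.map _ U)
      rw [← Submodule.map_comp, ← Submodule.map_comp]
      rfl)
  have hsumT : ∑ U ∈ T.image (Submodule.map W₀.subtype), finrank (ZMod p) U = T.card * finrank (ZMod p) U₀ := by
    rw [Finset.sum_image hinj.injOn, ← smul_eq_mul, ← Finset.sum_const]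
    exact Finset.sum_congr rfl fun U hU => (Submodule.finrank_map_subtype_eq _ _).trans (hrkT U hU)
  rw [hsumT, hcardT, hcard] at hsum
  have hsys : IsSys G S₂ := ⟨hstable, hb, htop, hsum⟩
  refine ⟨S₂, hsys, ?_⟩
  obtain ⟨-, -, hcard2⟩ := hsys.props hi (hTS (Finset.mem_image_of_mem _ hU₀))
  rw [Submodule.finrank_map_subtype_eq, ← hcard, ← hcardT, ← mul_assoc] at hcard2
  have hpos : 0 < finrank (ZMod p) U₀ :=
    Nat.pos_of_ne_zero fun he => hT.ne_bot U₀ hU₀ (Submodule.finrank_eq_zero.1 he)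
  rw [Nat.eq_of_mul_eq_mul_right hpos hcard2]
  exact lt_mul_of_one_lt_right (Finset.card_pos.2 ⟨W₀, h0⟩) hT2

/-- **the finest system**: on each block every abelian normal subgroup spans a field -/
theorem exists_finest [Nontrivial V] (hi : Irr G) :
    ∃ S, IsSys G S ∧ (∀ S', IsSys G S' → S'.card ≤ S.card) ∧
      ∃ W₀ ∈ S, Irr (resHom (inv_stab G W₀)).range ∧ AllField (resHom (inv_stab G W₀)).range := by
  classical
  haveI : Finite (Submodule (ZMod p) V) := Finite.of_injective (fun W => (W : Set V)) SetLike.coe_injective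
  haveI := Fintype.ofFinite (Submodule (ZMod p) V)
  obtain ⟨S, hS, hmax⟩ := Finset.exists_max_image
    ((Finset.univ : Finset (Finset (Submodule (ZMod p) V))).filter fun S => IsSys G S) Finset.card
    ⟨{⊤}, Finset.mem_filter.2 ⟨Finset.mem_univ _, IsSys.top G⟩⟩
  have h := (Finset.mem_filter.1 hS).2
  obtain ⟨W₀, h0⟩ := h.nonempty
  refine ⟨S, h, fun S' hS' => hmax S' (Finset.mem_filter.2 ⟨Finset.mem_univ _, hS'⟩), W₀, h0, irr_block hi h h0,
    fun A hAn hA => ?_⟩
  haveI := hAn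
  haveI : Nontrivial W₀ := Submodule.nontrivial_iff_ne_bot.2 (h.ne_bot _ h0)
  rcases field_or_system (irr_block hi h h0) A hA with hf | ⟨T, hT, hT2⟩
  · exact hf
  · obtain ⟨S₂, hS₂, hlt⟩ := refine_sys hi h h0 hT hT2
    exact absurd (hmax S₂ (Finset.mem_filter.2 ⟨Finset.mem_univ _, hS₂⟩)) (by omega)

end CfsgLib.Coprime.ClassLower
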