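import Mathlib

/-!
# Counting classes along a normal subgroup
-/

set_option autoImplicit false
set_option linter.style.haveILetI false
set_option linter.unusedSectionVars false

namespace CfsgLib.Coprime.ClassLower

variable {G : Type*} [Group G] [Finite G]

/-- the classes meeting a normal subgroup -/
abbrev ClsIn (N : Subgroup G) : Type _ := {c : ConjClasses G // ∃ x ∈ N, ConjClasses.mk x = c}

/-- classes in a normal subgroup and classes of the quotient -/
theorem classes_add (N : Subgroup G) [N.Normal] :
    Nat.card (ClsIn N) + Nat.card (ConjClasses (G ⧸ N)) ≤ Nat.card (ConjClasses G) + 1 := by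
  classical
  let π : G →* G ⧸ N := QuotientGroup.mk' N
  have hsur : Function.Surjective π := QuotientGroup.mk'_surjective N
  choose pre hpre using ConjClasses.map_surjective (f := π) hsur
  let f : ClsIn N ⊕ {d : ConjClasses (G ⧸ N) // d ≠ ConjClasses.mk 1} → ConjClasses G :=
    fun z => z.elim (fun c => c.1) (fun d => pre d.1)
  have h0 : ∀ c : ClsIn N, ConjClasses.map π c.1 = ConjClasses.mk 1 := by
    rintro ⟨_, x, hx, rfl⟩
    show ConjClasses.mk (π x) = _
    rw [show π x = 1 from (QuotientGroup.eq_one_iff x).2 hx]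
  have hf : Function.Injective f := by
    rintro (a | a) (b | b) h
    · exact congrArg Sum.inl (Subtype.ext h)
    · exact absurd (by rw [← hpre b.1, ← show a.1 = pre b.1 from h, h0]) b.2
    · exact absurd (by rw [← hpre a.1, show pre a.1 = b.1 from h, h0]) a.2
    · exact congrArg Sum.inr (Subtype.ext (by rw [← hpre a.1, ← hpre b.1, show pre a.1 = pre b.1 from h]))
  have h1 := Nat.card_le_card_of_injective f hf
  rw [Nat.card_sum] at h1
  have h2 : Nat.card {d : ConjClasses (G ⧸ N) // d ≠ ConjClasses.mk 1} + 1 = Nat.card (ConjClasses (G ⧸ N)) := by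
    letI := Fintype.ofFinite (ConjClasses (G ⧸ N))
    rw [Nat.card_eq_fintype_card, Nat.card_eq_fintype_card, Fintype.card_subtype_compl, Fintype.card_subtype_eq,
      Nat.sub_add_cancel (Fintype.card_pos_iff.2 ⟨ConjClasses.mk 1⟩)]
  omega

/-- the size of a class is at most the index of a subgroup centralising a representative -/
theorem card_carrier_le (L : Subgroup G) {x : G} (h : ∀ g ∈ L, g * x = x * g) :
    Nat.card (ConjClasses.mk x).carrier ≤ L.index := by
  let f : G ⧸ L → (ConjClasses.mk x).carrier :=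
    Quotient.lift (fun g => ⟨g * x * g⁻¹, ConjClasses.mem_carrier_iff_mk_eq.2
      (ConjClasses.mk_eq_mk_iff_isConj.2 (isConj_iff.2 ⟨g⁻¹, by group⟩))⟩) fun a b hab => by
        refine Subtype.ext ?_
        have hm : a⁻¹ * b ∈ L := QuotientGroup.leftRel_apply.1 hab
        show a * x * a⁻¹ = b * x * b⁻¹
        calc a * x * a⁻¹ = a * (x * (a⁻¹ * b)) * b⁻¹ := by group
          _ = a * ((a⁻¹ * b) * x) * b⁻¹ := by rw [h _ hm]
          _ = b * x * b⁻¹ := by group
  refine Nat.card_le_card_of_surjective f fun y => ?_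
  obtain ⟨g, hg⟩ := isConj_iff.1 (ConjClasses.mk_eq_mk_iff_isConj.1 (ConjClasses.mem_carrier_iff_mk_eq.1 y.2).symm)
  exact ⟨QuotientGroup.mk g, Subtype.ext hg⟩

/-- a normal subgroup is covered by its classes -/
theorem card_le_clsIn_mul (N : Subgroup G) {u : ℕ} (h : ∀ x ∈ N, Nat.card (ConjClasses.mk x).carrier ≤ u) :
    Nat.card N ≤ Nat.card (ClsIn N) * u := by
  classical
  letI := Fintype.ofFinite N
  letI := Fintype.ofFinite (ClsIn N)
  let q : N → ClsIn N := fun x => ⟨ConjClasses.mk (x : G), x, x.2, rfl⟩
  rw [Nat.card_eq_fintype_card, Nat.card_eq_fintype_card, ← Finset.card_univ, ← Finset.card_univ, mul_comm]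
  refine Finset.card_le_mul_card_image_of_maps_to (f := q) (fun _ _ => Finset.mem_univ _) u fun c _ => ?_
  obtain ⟨_, x, hx, rfl⟩ := c
  refine le_trans ?_ (h x hx)
  rw [← Fintype.card_coe, ← Nat.card_eq_fintype_card]
  refine Nat.card_le_card_of_injective (fun y => ⟨((y : N) : G), ?_⟩) fun a b hab =>
    Subtype.ext (Subtype.ext (congrArg Subtype.val hab :))
  rw [ConjClasses.mem_carrier_iff_mk_eq]
  exact congrArg Subtype.val (Finset.mem_filter.1 y.2).2

/-- the sum of the centraliser orders -/
theorem sum_card_centralizer [Fintype G] :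
    ∑ x : G, Nat.card {g : G // Commute x g} = Nat.card (ConjClasses G) * Nat.card G := by
  rw [← card_comm_eq_card_conjClasses_mul_card, ← Nat.card_sigma]
  exact Nat.card_congr
    { toFun := fun z => ⟨(z.1, z.2.1), z.2.2⟩
      invFun := fun z => ⟨z.1.1, z.1.2, z.2⟩
      left_inv := fun z => rfl
      right_inv := fun z => rfl }

end CfsgLib.Coprime.ClassLower
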