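import Cfsg.Agent.Lib.Coprime.ClassLower.Prim
import Cfsg.Agent.Lib.Coprime.ClassLower.Count
import Cfsg.Agent.Lib.PGroup.ClassSize

/-!
# The general count, and the two-dimensional group of symplectic type
-/

set_option autoImplicit false
set_option linter.unusedSectionVars false
set_option linter.style.haveILetI false
set_option maxHeartbeats 1000000

namespace CfsgLib.Coprime.ClassLower

open scoped commutatorElement

theorem card_centralizer_eq {H : Type*} [Group H] (x : H) :
    Nat.card {g : H // Commute x g} = Nat.card (Subgroup.centralizer ({x} : Set H)) :=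
  Nat.card_congr (Equiv.subtypeEquivRight fun g => by
    rw [Subgroup.mem_centralizer_singleton_iff]; exact ⟨fun h => h.symm.eq, fun h => h.symm⟩)

/-- **the count along an abelian normal subgroup** -/
theorem count_core {H : Type*} [Group H] [Finite H] {p t r s e o : ℕ} (hp : p.Prime) (hp11 : 11 ≤ p) (ht : 1 ≤ t)
    (hs : 1 ≤ s) (he : 1 ≤ e) (hse : s * e ≤ r) (hn : 2 ≤ t * r) (h3 : s = 1 → e = 3 → 3 ∣ p - 1)
    (hnot : ¬(t = 1 ∧ s = 1 ∧ r = 2 ∧ e = 2)) (A L : Subgroup H) [A.Normal]
    (hL : ∀ a ∈ A, ∀ g ∈ L, g * a = a * g) (hu : L.index ≤ pf t * s ^ t)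
    (hwb : A.index ≤ pf t * (s * W e) ^ t) (ho : t ≤ o) (hcount : p ^ (t * r) - 1 ≤ o * Nat.card H) :
    49 * p ≤ 60 * (Nat.card (ConjClasses H) + o) := by
  have hu1 : 1 ≤ L.index := Nat.one_le_iff_ne_zero.2 Subgroup.index_ne_zero_of_finite
  haveI : Nonempty (ConjClasses (H ⧸ A)) := ⟨ConjClasses.mk 1⟩
  refine arith_core (x := Nat.card A) (kb := Nat.card (ConjClasses (H ⧸ A))) (u := L.index) (wb := A.index) hp hp11
    ht hs he hse hn h3 hnot Nat.card_pos Nat.card_pos ?_ hu1 hu hwb (fun h5 => card_le_landau (H ⧸ A) h5) ho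
    (by rwa [mul_assoc, A.card_mul_index])
  have h1 := card_le_clsIn_mul A (u := L.index) fun x hx => card_carrier_le L fun g hg => hL x hx g hg
  have h2 := classes_add A
  obtain ⟨j, hj⟩ : ∃ j, Nat.card (ConjClasses (H ⧸ A)) = j + 1 :=
    ⟨_, (Nat.succ_pred_eq_of_pos Nat.card_pos).symm⟩
  rw [hj] at h2 ⊢
  have h3' := Nat.mul_le_mul_right L.index (show Nat.card (ClsIn A) + j ≤ Nat.card (ConjClasses H) by omega)
  rw [add_mul] at h3'
  rw [Nat.add_sub_cancel]
  omega

theorem tight_arith_small {p z k o wb : ℕ} (hp : 11 ≤ p) (hwb : 4 ≤ wb) (hwb12 : wb ≤ 12)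
    (hk : z * (3 * wb - 2) ≤ k * wb) (ho : p ^ 2 - 1 ≤ o * (z * wb)) : 49 * p ≤ 60 * (k + o) := by
  obtain ⟨c, hc⟩ := Nat.exists_eq_add_of_le hwb
  subst hc
  have h1 : 5 * z ≤ 2 * k := by
    refine Nat.le_of_mul_le_mul_right ?_ (show 0 < 4 + c by omega)
    calc 5 * z * (4 + c) ≤ 2 * (z * (3 * (4 + c) - 2)) := by
          rw [show 3 * (4 + c) - 2 = 10 + 3 * c by omega]; ring_nf; omega
      _ ≤ 2 * (k * (4 + c)) := Nat.mul_le_mul_left _ hk
      _ = 2 * k * (4 + c) := by ring
  have h2 : p ^ 2 - 1 ≤ o * (z * 12) := ho.trans (Nat.mul_le_mul_left _ (Nat.mul_le_mul_left _ hwb12))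
  have hp2 : 121 ≤ p ^ 2 := by nlinarith
  obtain ⟨N, hN⟩ := Nat.exists_eq_add_of_le (show 1 ≤ p ^ 2 by omega)
  rw [hN, Nat.add_sub_cancel_left] at h2
  rw [hN] at hp2
  have h4 : 5 * N ≤ 24 * (k * o) := by nlinarith
  have h5 : 4 * (k * o) ≤ (k + o) ^ 2 := by rw [← mul_assoc]; exact four_mul_le_pow_two_add _ _
  refine (Nat.pow_le_pow_iff_left (show (2 : ℕ) ≠ 0 by norm_num)).1 ?_
  rw [mul_pow, mul_pow, hN]
  norm_num
  omega

theorem tight_arith_big {p z k o : ℕ} (hp : p.Prime) (hp11 : 11 ≤ p) (hz : z ∣ p - 1)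
    (hk : 4 * z ≤ k) (ho : p ^ 2 - 1 ≤ o * (z * 24)) : 49 * p ≤ 60 * (k + o) := by
  obtain ⟨M, hM⟩ := hz
  have hz1 : 1 ≤ z := by
    rcases Nat.eq_zero_or_pos z with rfl | h
    · rw [zero_mul] at hM; omega
    · exact h
  obtain ⟨P, rfl⟩ : ∃ P, p = P + 1 := ⟨p - 1, by omega⟩
  rw [Nat.add_sub_cancel] at hM
  have h1 : z * (M * (P + 2)) ≤ z * (24 * o) := by
    rw [← mul_assoc, ← hM]
    have : (P + 1) ^ 2 - 1 = P * (P + 2) := by
      rw [Nat.sub_eq_iff_eq_add (Nat.one_le_pow _ _ (by omega))]; ring
    rw [this] at ho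
    linarith
  have h2 := Nat.le_of_mul_le_mul_left h1 hz1
  rcases le_or_gt 10 M with hM10 | hM9
  · subst hM
    rcases eq_or_lt_of_le hM10 with rfl | hM11
    · omega
    · obtain ⟨j, rfl⟩ : ∃ j, M = 11 + j := ⟨M - 11, by omega⟩
      nlinarith [Nat.zero_le (z * j), Nat.zero_le j, Nat.zero_le (z * (j * j))]
  · interval_cases M
    · omega
    · omega
    · omega
    · omega
    · omega
    · omega
    · omega
    · omega
    · omega
    · -- `M = 9`
      by_cases hP : 24 ≤ P
      · omega
      · obtain rfl : z = 2 := by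
          have : z ≤ 2 := by omega
          interval_cases z
          · norm_num at hM; omega
          · rfl
        omega

/-- **the two-dimensional group of symplectic type** -/
theorem tight_core {H : Type*} [Group H] [Finite H] {p o : ℕ} (hp : p.Prime) (hp11 : 11 ≤ p) (A F : Subgroup H)
    (h : PrimData p 2 A F 1 2) (hcount : p ^ 2 - 1 ≤ o * Nat.card H) :
    49 * p ≤ 60 * (Nat.card (ConjClasses H) + o) := by
  classical
  haveI := h.normal_A
  haveI := h.normal_F
  haveI := h.cyclic
  letI := Fintype.ofFinite H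
  set π := QuotientGroup.mk' A with hπ
  letI := Fintype.ofFinite (H ⧸ A)
  have hπ1 : ∀ g, π g = 1 ↔ g ∈ A := fun g => QuotientGroup.eq_one_iff g
  have hctop : Subgroup.centralizer (A : Set H) = ⊤ := by
    refine Subgroup.index_eq_one.1 (le_antisymm h.index_le ?_)
    exact Nat.one_le_iff_ne_zero.2 Subgroup.index_ne_zero_of_finite
  have hcen : ∀ a ∈ A, ∀ g : H, a * g = g * a := fun a ha g =>
    Subgroup.mem_centralizer_iff.1 (hctop ▸ Subgroup.mem_top g : g ∈ Subgroup.centralizer (A : Set H)) a ha
  set z := Nat.card A with hz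
  set N := F.map π with hN
  haveI : N.Normal := h.normal_F.map π (QuotientGroup.mk'_surjective A)
  have hNcard : Nat.card N = 4 := by
    rw [hN, ← Subgroup.relIndex_ker, hπ, QuotientGroup.ker_mk', h.relIndex_F]; norm_num
  have hexp : ∀ n ∈ N, n ^ 2 = 1 := by
    rintro _ ⟨x, hx, rfl⟩
    rw [← map_pow, hπ1]
    refine h.sqfree 2 Nat.prime_two x hx ((hπ1 _).1 ?_)
    rw [map_pow, show (2 : ℕ) ^ 2 = Nat.card N by rw [hNcard]; norm_num]
    exact congrArg Subtype.val (pow_card_eq_one' (x := (⟨π x, x, hx, rfl⟩ : N)))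
  have hab : ∀ a ∈ N, ∀ b ∈ N, a * b = b * a := by
    rintro _ ⟨x, hx, rfl⟩ _ ⟨y, hy, rfl⟩
    rw [← commutatorElement_eq_one_iff_mul_comm, ← map_commutatorElement, hπ1]
    exact h.comm_mem x hx y hy
  have hself : ∀ q : H ⧸ A, (∀ n ∈ N, q * n = n * q) → q ∈ N := by
    intro q hq
    obtain ⟨g, rfl⟩ := QuotientGroup.mk'_surjective A q
    refine ⟨g, h.faithful g (hctop ▸ Subgroup.mem_top g) (fun x hx => ?_), rfl⟩
    rw [← hπ1, map_commutatorElement, commutatorElement_eq_one_iff_mul_comm]
    exact hq _ ⟨x, hx, rfl⟩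
  -- the action on the three involutions
  let cj : H ⧸ A →* MulAut N := MulAut.conjNormal
  let T := {n : N // n ≠ 1}
  have hT : Nat.card T = 3 := by
    letI := Fintype.ofFinite N
    rw [Nat.card_eq_fintype_card, Fintype.card_subtype_compl, Fintype.card_subtype_eq, ← Nat.card_eq_fintype_card,
      hNcard]
  let toP : MulAut N →* Equiv.Perm T :=
    { toFun := fun α =>
        { toFun := fun n => ⟨α n.1, fun hh => n.2 (α.map_eq_one_iff.1 hh)⟩
          invFun := fun n => ⟨α.symm n.1, fun hh => n.2 (α.symm.map_eq_one_iff.1 hh)⟩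
          left_inv := fun n => Subtype.ext (α.symm_apply_apply _)
          right_inv := fun n => Subtype.ext (α.apply_symm_apply _) }
      map_one' := rfl
      map_mul' := fun _ _ => rfl }
  let eT : T ≃ Fin 3 := (Nat.equivFinOfCardPos (α := T) (by rw [hT]; norm_num)).trans (finCongr hT)
  let ρ : H ⧸ A →* Equiv.Perm (Fin 3) := eT.permCongrHom.toMonoidHom.comp (toP.comp cj)
  have hρker : ρ.ker = N := by
    ext q
    rw [MonoidHom.mem_ker]
    constructor
    · intro hq
      refine hself q fun n hn => ?_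
      have h1 : toP (cj q) = 1 := eT.permCongrHom.injective ((show eT.permCongrHom (toP (cj q)) = 1 from hq).trans (map_one _).symm)
      by_cases hn1 : (⟨n, hn⟩ : N) = 1
      · rw [show n = 1 from congrArg Subtype.val hn1, mul_one, one_mul]
      · have h2 : q * n * q⁻¹ = n :=
          congrArg (fun x : T => ((x.1 : N) : H ⧸ A)) (DFunLike.congr_fun h1 (⟨⟨n, hn⟩, hn1⟩ : T))
        exact mul_inv_eq_iff_eq_mul.1 h2
    · intro hq
      have h1 : cj q = 1 := MulEquiv.ext fun n => Subtype.ext (by
        show q * (n : H ⧸ A) * q⁻¹ = n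
        rw [hab q hq n n.2, mul_inv_cancel_right])
      show eT.permCongrHom (toP (cj q)) = 1
      rw [h1, map_one, map_one]
  have hindexN : N.index = Nat.card ρ.range := by rw [← hρker, Subgroup.index_ker]
  have hdvd : N.index ∣ 6 := by
    rw [hindexN]
    refine (Subgroup.card_subgroup_dvd_card _).trans (dvd_of_eq ?_)
    rw [Nat.card_eq_fintype_card, Fintype.card_perm, Fintype.card_fin]
    rfl
  set wb := Nat.card (H ⧸ A) with hwb
  have hwb4 : wb = 4 * N.index := by rw [hwb, ← N.card_mul_index, hNcard]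
  have hH : Nat.card H = z * wb := A.card_mul_index.symm
  rw [hH] at hcount
  -- centralisers
  set cc : H → ℕ := fun x => Nat.card {g : H // Commute x g} with hcc
  have hlow : ∀ x : H, z * orderOf (π x) ≤ cc x := by
    intro x
    show z * _ ≤ Nat.card _
    rw [card_centralizer_eq]
    set P := (Subgroup.zpowers (π x)).comap π with hP
    have hle : P ≤ Subgroup.centralizer ({x} : Set H) := by
      intro g hg
      obtain ⟨i, hi⟩ := Subgroup.mem_zpowers_iff.1 (Subgroup.mem_comap.1 hg)
      rw [← map_zpow] at hi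
      obtain ⟨a, ha, rfl⟩ := (QuotientGroup.mk'_eq_mk' A).1 hi
      rw [Subgroup.mem_centralizer_singleton_iff]
      calc x ^ i * a * x = x ^ i * (x * a) := by rw [mul_assoc, hcen a ha x]
        _ = x * x ^ i * a := by rw [← mul_assoc, ← zpow_add_one, ← mul_self_zpow, mul_self_zpow]
        _ = x * (x ^ i * a) := mul_assoc _ _ _
    have hAP : A ≤ P := fun a ha => Subgroup.mem_comap.2 (by rw [(hπ1 a).2 ha]; exact one_mem _)
    have hPcard : Nat.card P = z * orderOf (π x) := by
      rw [← Nat.card_zpowers, ← (A.subgroupOf P).card_mul_index]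
      congr 1
      · exact Nat.card_congr (Subgroup.subgroupOfEquivOfLe hAP).toEquiv
      · show A.relIndex P = _
        conv_lhs => rw [show A = π.ker from (QuotientGroup.ker_mk' A).symm]
        rw [Subgroup.relIndex_ker, hP, Subgroup.map_comap_eq_self_of_surjective (QuotientGroup.mk'_surjective A)]
    rw [← hPcard]
    exact Nat.card_le_card_of_injective _ (Subgroup.inclusion_injective hle)
  have htop : ∀ x : H, π x = 1 → cc x = z * wb := by
    intro x hx
    show Nat.card _ = _
    rw [← hH]
    exact Nat.card_congr (Equiv.subtypeUnivEquiv fun g => hcen x ((hπ1 x).1 hx) g)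
  have hsum : ∀ f : H ⧸ A → ℕ, (∀ x, z * f (π x) ≤ cc x) →
      z * (z * ∑ q, f q) ≤ Nat.card (ConjClasses H) * (z * wb) := by
    intro f hf
    rw [← hH, ← sum_card_centralizer]
    refine le_trans (le_of_eq ?_) (Finset.sum_le_sum fun x _ => hf x)
    letI := Fintype.ofFinite A
    rw [← Finset.mul_sum]
    congr 1
    rw [Fintype.sum_equiv (Subgroup.groupEquivQuotientProdSubgroup (s := A)) (fun x => f (π x)) (fun y => f y.1)
        (fun x => rfl),
      Fintype.sum_prod_type, hz, Finset.mul_sum]
    exact Finset.sum_congr rfl fun q _ => by simp [Nat.card_eq_fintype_card]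
  have hzdvd : z ∣ p - 1 := by have := h.card_dvd; rwa [pow_one] at this
  have hzpos : 0 < z := Nat.card_pos
  have hcases : wb ≤ 12 ∨ wb = 24 := by
    have : N.index ≤ 6 := Nat.le_of_dvd (by norm_num) hdvd
    interval_cases hidx : N.index <;> omega
  rcases hcases with h12 | h24
  · have h1 := hsum (fun q => if q = 1 then wb else 2) (fun x => by
      show z * (if π x = 1 then wb else 2) ≤ _
      split_ifs with hq
      · rw [htop x hq]
      · refine le_trans (Nat.mul_le_mul_left _ ?_) (hlow x)
        have : orderOf (π x) ≠ 1 := fun hh => hq (orderOf_eq_one_iff.1 hh)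
        have := orderOf_pos (π x)
        omega)
    have h2 : (∑ q : H ⧸ A, if q = 1 then wb else 2) = 3 * wb - 2 := by
      rw [Finset.sum_ite, Finset.filter_eq', if_pos (Finset.mem_univ _), Finset.sum_const, Finset.sum_const,
        Finset.card_singleton, Finset.filter_ne', Finset.card_erase_of_mem (Finset.mem_univ _), Finset.card_univ,
        ← Nat.card_eq_fintype_card, ← hwb, smul_eq_mul, smul_eq_mul]
      omega
    rw [h2, show Nat.card (ConjClasses H) * (z * wb) = z * (Nat.card (ConjClasses H) * wb) by ring] at h1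
    have h3 := Nat.le_of_mul_le_mul_left h1 hzpos
    exact tight_arith_small hp11 (by rw [hwb4]; exact Nat.le_mul_of_pos_right _ (Nat.pos_of_ne_zero
      Subgroup.index_ne_zero_of_finite)) h12 h3 hcount
  · -- the octahedral case
    have hidx6 : N.index = 6 := by omega
    have hρsurj : Function.Surjective ρ := by
      rw [← MonoidHom.range_eq_top]
      apply Subgroup.eq_top_of_card_eq
      rw [← hindexN, hidx6, Nat.card_eq_fintype_card, Fintype.card_perm, Fintype.card_fin]
      rfl
    set fq : H ⧸ A → ℕ := fun q => if q = 1 then 24 else if q ∈ N then 4 else orderOf q with hfq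
    have hNclass : ∀ x : H, π x ∈ N → π x ≠ 1 → z * 4 ≤ cc x := by
      intro x hxN hx1
      show z * 4 ≤ Nat.card _
      rw [card_centralizer_eq]
      have hcl : (ConjClasses.mk x).carrier.ncard ≤ 6 := by
        letI := Fintype.ofFinite (ConjClasses.mk x).carrier
        rw [← Nat.card_coe_set_eq, Nat.card_eq_fintype_card, ← Finset.card_univ]
        have hmem : ∀ y : (ConjClasses.mk x).carrier, π (y : H) ∈ N ∧ π (y : H) ≠ 1 ∧ (y : H) ^ 2 = x ^ 2 := by
          intro y
          obtain ⟨g, hg⟩ := isConj_iff.1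
            (ConjClasses.mk_eq_mk_iff_isConj.1 (ConjClasses.mem_carrier_iff_mk_eq.1 y.2).symm)
          rw [← hg]
          refine ⟨?_, ?_, ?_⟩
          · rw [map_mul, map_mul, map_inv]; exact ‹N.Normal›.conj_mem _ hxN _
          · rw [map_mul, map_mul, map_inv]; exact fun hh => hx1 (conj_eq_one_iff.1 hh)
          · have hx2 : x ^ 2 ∈ A := (hπ1 _).1 (by rw [map_pow]; exact hexp _ hxN)
            rw [conj_pow, ← hcen _ hx2, mul_inv_cancel_right]
        letI := Fintype.ofFinite T
        let v : (ConjClasses.mk x).carrier → T := fun y =>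
          ⟨⟨π (y : H), (hmem y).1⟩, fun hh => (hmem y).2.1 (congrArg Subtype.val hh)⟩
        refine le_trans (Finset.card_le_mul_card_image_of_maps_to (f := v) (t := Finset.univ)
          (fun _ _ => Finset.mem_univ _) 2 fun n _ => ?_) ?_
        · rcases (Finset.univ.filter fun y => v y = n).eq_empty_or_nonempty with he | ⟨y0, hy0⟩
          · rw [he]; simp
          · letI := Fintype.ofFinite A
            refine le_trans ?_ (IsCyclic.card_pow_eq_one_le (α := A) (n := 2) (by norm_num))
            have hd : ∀ y ∈ (Finset.univ.filter fun y => v y = n), ((y0 : H))⁻¹ * (y : H) ∈ A := fun y hy => by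
              rw [← hπ1, map_mul, map_inv, inv_mul_eq_one]
              exact congrArg (fun x : T => ((x.1 : N) : H ⧸ A))
                ((Finset.mem_filter.1 hy0).2.trans (Finset.mem_filter.1 hy).2.symm)
            refine Finset.card_le_card_of_injOn (fun y => if hy : _ then (⟨_, hd y hy⟩ : A) else 1) ?_ ?_
            · intro y hy
              rw [Finset.mem_coe] at hy ⊢
              rw [Finset.mem_filter]
              refine ⟨Finset.mem_univ _, ?_⟩
              simp only [dif_pos hy]
              refine Subtype.ext ?_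
              rw [SubgroupClass.coe_pow, OneMemClass.coe_one]
              obtain ⟨a, ha, hy'⟩ : ∃ a ∈ A, (y : H) = (y0 : H) * a := ⟨_, hd y hy, (mul_inv_cancel_left _ _).symm⟩
              show ((y0 : H)⁻¹ * (y : H)) ^ 2 = 1
              rw [show ((y0 : H))⁻¹ * (y : H) = a by rw [hy', inv_mul_cancel_left]]
              have h2 := (hmem y).2.2.trans (hmem y0).2.2.symm
              rw [hy', (show Commute (y0 : H) a from (hcen a ha _).symm).mul_pow] at h2
              exact mul_eq_left.1 h2
            · intro y1 hy1 y2 hy2 h12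
              simp only [dif_pos (Finset.mem_coe.1 hy1), dif_pos (Finset.mem_coe.1 hy2)] at h12
              exact Subtype.ext (mul_left_cancel (congrArg Subtype.val h12))
        · rw [Finset.card_univ, ← Nat.card_eq_fintype_card, hT]
      rw [CfsgLib.PGroup.ncard_carrier_eq_index] at hcl
      have h3 := (Subgroup.centralizer ({x} : Set H)).card_mul_index
      rw [hH, h24] at h3
      nlinarith
    have h1 := hsum fq (fun x => by
      show z * fq (π x) ≤ _
      simp only [hfq]
      split_ifs with hq hN'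
      · rw [htop x hq, h24]
      · exact hNclass x hN' hq
      · exact hlow x)
    have hfib : ∀ σ, (Finset.univ.filter fun q : H ⧸ A => ρ q = σ).card = 4 := by
      intro σ
      obtain ⟨q0, hq0⟩ := hρsurj σ
      rw [← Fintype.card_coe, ← Nat.card_eq_fintype_card, ← hNcard]
      exact Nat.card_congr
        { toFun := fun q => ⟨q0⁻¹ * q.1, by
            rw [← hρker, MonoidHom.mem_ker, map_mul, map_inv, hq0, (Finset.mem_filter.1 q.2).2, inv_mul_cancel]⟩
          invFun := fun n => ⟨q0 * n.1, Finset.mem_filter.2 ⟨Finset.mem_univ _, by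
            rw [map_mul, hq0, (MonoidHom.mem_ker.1 (hρker.symm ▸ n.2 : (n.1) ∈ ρ.ker)), mul_one]⟩⟩
          left_inv := fun q => Subtype.ext (mul_inv_cancel_left _ _)
          right_inv := fun n => Subtype.ext (inv_mul_cancel_left _ _) }
    set T2 := Finset.univ.filter fun q : H ⧸ A => q ∉ N ∧ q ^ 2 ∈ N with hT2
    set I2 := Finset.univ.filter fun q : H ⧸ A => q ∉ N ∧ q ^ 2 = 1 with hI2
    set P3 := Finset.univ.filter fun σ : Equiv.Perm (Fin 3) => σ ≠ 1 ∧ σ ^ 2 = 1 with hP3
    have hP3card : P3.card = 3 := by rw [hP3]; decide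
    have hT2card : T2.card = 12 := by
      have hmap : ∀ q ∈ T2, ρ q ∈ P3 := fun q hq => by
        obtain ⟨-, h1, h2⟩ := Finset.mem_filter.1 hq
        rw [← hρker, MonoidHom.mem_ker] at h1 h2
        exact Finset.mem_filter.2 ⟨Finset.mem_univ _, h1, by rwa [← map_pow]⟩
      rw [Finset.card_eq_sum_card_fiberwise hmap,
        Finset.sum_congr rfl (g := fun _ => 4) (fun σ hσ => ?_), Finset.sum_const, hP3card, smul_eq_mul]
      rw [← hfib σ]
      refine congrArg Finset.card (Finset.ext fun q => ⟨fun hq => ?_, fun hq => ?_⟩)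
      · exact Finset.mem_filter.2 ⟨Finset.mem_univ _, (Finset.mem_filter.1 hq).2⟩
      · obtain ⟨-, h1, h2⟩ := Finset.mem_filter.1 hσ
        have h3 := (Finset.mem_filter.1 hq).2
        refine Finset.mem_filter.2 ⟨Finset.mem_filter.2 ⟨Finset.mem_univ _, ?_, ?_⟩, h3⟩
        · rw [← hρker, MonoidHom.mem_ker, h3]; exact h1
        · rw [← hρker, MonoidHom.mem_ker, map_pow, h3]; exact h2
    have hI2card : I2.card ≤ 6 := by
      have hmap : ∀ q ∈ I2, ρ q ∈ P3 := fun q hq => by
        obtain ⟨-, h1, h2⟩ := Finset.mem_filter.1 hq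
        rw [← hρker, MonoidHom.mem_ker] at h1
        exact Finset.mem_filter.2 ⟨Finset.mem_univ _, h1, by rw [← map_pow, h2, map_one]⟩
      refine (Finset.card_le_mul_card_image_of_maps_to hmap 2 fun σ _ => ?_).trans (by rw [hP3card])
      rcases (I2.filter fun q => ρ q = σ).eq_empty_or_nonempty with he | ⟨q0, hq0⟩
      · rw [he]; simp
      obtain ⟨hq0I, hq0σ⟩ := Finset.mem_filter.1 hq0
      obtain ⟨-, hq0N, hq02⟩ := Finset.mem_filter.1 hq0I
      set P := N ⊓ Subgroup.centralizer ({q0} : Set (H ⧸ A)) with hP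
      have hP2 : Nat.card P ≤ 2 := by
        have hdvdP : Nat.card P ∣ 4 := hNcard ▸ Subgroup.card_dvd_of_le inf_le_left
        have hne : Nat.card P ≠ 4 := fun h4 => hq0N (hself q0 fun n hn => by
          have heq : P = N := Subgroup.eq_of_le_of_card_ge inf_le_left (by rw [h4, hNcard])
          have hn' : n ∈ P := heq ▸ hn
          exact (Subgroup.mem_centralizer_singleton_iff.1 hn'.2).symm)
        have : Nat.card P ≤ 4 := Nat.le_of_dvd (by norm_num) hdvdP
        interval_cases hc : Nat.card P <;> omega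
      refine le_trans ?_ hP2
      rw [← Fintype.card_coe, ← Nat.card_eq_fintype_card]
      refine Nat.card_le_card_of_injective (fun q => (⟨q0⁻¹ * q.1, ?_, ?_⟩ : P)) fun a b hab =>
        Subtype.ext (mul_left_cancel (congrArg Subtype.val hab))
      · rw [← hρker]
        show ρ _ = 1
        rw [map_mul, map_inv, hq0σ, (Finset.mem_filter.1 q.2).2, inv_mul_cancel]
      · refine Subgroup.mem_centralizer_singleton_iff.2 ?_
        obtain ⟨hqI, hqσ⟩ := Finset.mem_filter.1 q.2
        have hv : q0⁻¹ * q.1 ∈ N := by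
          rw [← hρker, MonoidHom.mem_ker, map_mul, map_inv, hq0σ, hqσ, inv_mul_cancel]
        have hq2 := (Finset.mem_filter.1 hqI).2.2
        have hv2 := hexp _ hv
        generalize hve : q0⁻¹ * q.1 = v at hv2 ⊢
        have hq' : q.1 = q0 * v := by rw [← hve, mul_inv_cancel_left]
        rw [hq', pow_two] at hq2
        rw [pow_two] at hq02 hv2
        have e1 : v * q0 * v = q0 := by
          have := congrArg (q0 * ·) hq2
          simp only [mul_one, ← mul_assoc, hq02, one_mul] at this
          exact this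
        calc v * q0 = v * q0 * (v * v) := by rw [hv2, mul_one]
          _ = q0 * v := by rw [← mul_assoc, e1]
    have hpt : ∀ q : H ⧸ A, q ∉ N → 3 + (if q ∈ T2 then 1 else 0) ≤ orderOf q + (if q ∈ I2 then 2 else 0) := by
      intro q hq
      have hne : q ≠ 1 := fun hh => hq (hh ▸ one_mem N)
      have h0 := orderOf_pos q
      have h1 : orderOf q ≠ 1 := fun hh => hne (orderOf_eq_one_iff.1 hh)
      by_cases hq2 : q ^ 2 = 1
      · rw [if_pos (show q ∈ T2 from Finset.mem_filter.2 ⟨Finset.mem_univ _, hq, hq2 ▸ one_mem N⟩),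
          if_pos (show q ∈ I2 from Finset.mem_filter.2 ⟨Finset.mem_univ _, hq, hq2⟩)]
        omega
      · have h2 : orderOf q ≠ 2 := fun hh => hq2 (by rw [← hh, pow_orderOf_eq_one])
        by_cases hqN : q ^ 2 ∈ N
        · have h4 : orderOf q = 4 := by
            haveI := Fact.mk Nat.prime_two
            exact orderOf_eq_prime_pow (p := 2) (n := 1) (by rw [pow_one]; exact hq2)
              (by rw [show (2 : ℕ) ^ (1 + 1) = 2 * 2 by norm_num, pow_mul]; exact hexp _ hqN)
          rw [if_pos (show q ∈ T2 from Finset.mem_filter.2 ⟨Finset.mem_univ _, hq, hqN⟩)]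
          omega
        · rw [if_neg (fun hh => hqN (Finset.mem_filter.1 hh).2.2)]
          omega
    have h2 : 96 ≤ ∑ q, fq q := by
      rw [← Finset.sum_filter_add_sum_filter_not Finset.univ (fun q => q ∈ N)]
      set NF := Finset.univ.filter fun q : H ⧸ A => q ∈ N with hNF
      have hNFc : NF.card = 4 := by rw [hNF, ← Fintype.card_subtype, ← Nat.card_eq_fintype_card]; exact hNcard
      set OF := Finset.univ.filter fun q : H ⧸ A => q ∉ N with hOF
      have hOFc : OF.card = 20 := by
        have := Finset.card_filter_add_card_filter_not (s := (Finset.univ : Finset (H ⧸ A))) (fun q => q ∈ N)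
        rw [← hNF, ← hOF, hNFc, Finset.card_univ, ← Nat.card_eq_fintype_card, ← hwb, h24] at this
        omega
      have ha : 36 ≤ ∑ q ∈ NF, fq q := by
        have h1N : (1 : H ⧸ A) ∈ NF := Finset.mem_filter.2 ⟨Finset.mem_univ _, one_mem N⟩
        rw [← Finset.add_sum_erase _ _ h1N, Finset.sum_congr rfl (g := fun _ => 4) (fun q hq => ?_),
          Finset.sum_const, Finset.card_erase_of_mem h1N, hNFc]
        · simp [hfq]
        · obtain ⟨hq1, hqN⟩ := Finset.mem_erase.1 hq
          simp only [hfq, if_neg hq1, if_pos (Finset.mem_filter.1 hqN).2]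
      have hb : 60 ≤ ∑ q ∈ OF, fq q := by
        have h3 : ∑ q ∈ OF, (3 + (if q ∈ T2 then 1 else 0)) ≤ ∑ q ∈ OF, (fq q + (if q ∈ I2 then 2 else 0)) := by
          refine Finset.sum_le_sum fun q hq => ?_
          have hqN := (Finset.mem_filter.1 hq).2
          simp only [hfq, if_neg (fun hh : q = 1 => hqN (hh ▸ one_mem N)), if_neg hqN]
          exact hpt q hqN
        rw [Finset.sum_add_distrib, Finset.sum_add_distrib, Finset.sum_const, hOFc, Finset.sum_ite_mem,
          Finset.sum_ite_mem, Finset.sum_const, Finset.sum_const,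
          Finset.inter_eq_right.2 (fun q hq => Finset.mem_filter.2 ⟨Finset.mem_univ _, (Finset.mem_filter.1 hq).2.1⟩),
          Finset.inter_eq_right.2 (fun q hq => Finset.mem_filter.2 ⟨Finset.mem_univ _, (Finset.mem_filter.1 hq).2.1⟩),
          hT2card] at h3
        simp only [smul_eq_mul] at h3
        omega
      omega
    rw [h24] at h1 hcount
    refine tight_arith_big hp hp11 hzdvd ?_ hcount
    have h3 := le_trans (Nat.mul_le_mul_left z (Nat.mul_le_mul_left z h2)) h1
    rw [show Nat.card (ConjClasses H) * (z * 24) = z * (24 * Nat.card (ConjClasses H)) by ring] at h3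
    have := Nat.le_of_mul_le_mul_left h3 hzpos
    omega

end CfsgLib.Coprime.ClassLower
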