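import Cfsg.Agent.Lib.Coprime.ClassMod.Perm
import Cfsg.Agent.Lib.Coprime.ClassLower.Sys
import Cfsg.Agent.Lib.Coprime.ClassLower.Tight

/-!
# The class number of a solvable irreducible linear group plus the number of its orbits
-/

set_option autoImplicit false
set_option linter.unusedSectionVars false
set_option linter.style.haveILetI false
set_option maxHeartbeats 1000000

namespace CfsgLib.Coprime.ClassLower

open Module CfsgLib.Char CfsgLib.Char.Berger

universe v

variable {p : ℕ} [Fact p.Prime] {V : Type v} [AddCommGroup V] [Module (ZMod p) V] [Finite V]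

/-- the action on the blocks -/
def permHom {G : Subgroup (V ≃ₗ[ZMod p] V)} {S : Finset (Submodule (ZMod p) V)} (h : IsSys G S) :
    G →* Equiv.Perm S where
  toFun g :=
    { toFun := fun W => ⟨moveSub (g : V ≃ₗ[ZMod p] V) W, h.stable _ g.2 _ W.2⟩
      invFun := fun W => ⟨moveSub (g : V ≃ₗ[ZMod p] V)⁻¹ W, h.stable _ (inv_mem g.2) _ W.2⟩
      left_inv := fun W => Subtype.ext (moveSub_inv_eq rfl)
      right_inv := fun W => Subtype.ext (by
        show moveSub (g : V ≃ₗ[ZMod p] V) (moveSub (g : V ≃ₗ[ZMod p] V)⁻¹ (W : Submodule (ZMod p) V)) = W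
        rw [← moveSub_mul, mul_inv_cancel, moveSub_one]) }
  map_one' := Equiv.ext fun W => Subtype.ext (moveSub_one _)
  map_mul' g g' := Equiv.ext fun W => Subtype.ext (moveSub_mul _ _ _)

theorem permHom_index_le {G : Subgroup (V ≃ₗ[ZMod p] V)} (hs : Group.IsSolvable G)
    {S : Finset (Submodule (ZMod p) V)} (h : IsSys G S) : (permHom h).ker.index ≤ pf S.card := by
  classical
  haveI := hs
  rw [Subgroup.index_ker]
  refine le_min ?_ ?_
  · refine (Subgroup.card_le_card_group _).trans (le_of_eq ?_)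
    rw [Nat.card_eq_fintype_card, Fintype.card_perm, Fintype.card_coe]
  · haveI : Group.IsSolvable (permHom h).range := Group.isSolvable_of_surjective (permHom h).rangeRestrict_surjective
    refine (CfsgLib.Coprime.ClassMod.card_perm_subgroup_le (permHom h).range).trans ?_
    rw [Nat.card_eq_fintype_card, Fintype.card_coe]

/-- there are at least as many orbits as blocks -/
theorem card_sys_le_orbits {G : Subgroup (V ≃ₗ[ZMod p] V)} {S : Finset (Submodule (ZMod p) V)} (h : IsSys G S)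
    {o : ℕ} (ho : ∀ T : Finset V, (∀ a ∈ T, a ≠ 0) → (∀ a ∈ T, ∀ b ∈ T, ∀ g ∈ G, g a = b → a = b) → T.card ≤ o) :
    S.card ≤ o := by
  classical
  let e : Fin S.card ≃ S := S.equivFin.symm
  have hne : ∀ W : S, ∃ w : (W : Submodule (ZMod p) V), w ≠ 0 := fun W => by
    haveI : Nontrivial (W : Submodule (ZMod p) V) := Submodule.nontrivial_iff_ne_bot.2 (h.ne_bot _ W.2)
    exact exists_ne 0
  choose w hw using hne
  let x : Fin S.card → ∀ W : S, (W : Submodule (ZMod p) V) := fun i W => if e.symm W ≤ i then w W else 0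
  let vec : Fin S.card → V := fun i => ∑ W : S, (x i W : V)
  have hsupp : ∀ i, (Finset.univ.filter fun W : S => (x i W : V) ≠ 0).card = (i : ℕ) + 1 := by
    intro i
    rw [← Fin.card_Iic i, ← Finset.card_map e.toEmbedding (s := Finset.Iic i)]
    refine congrArg Finset.card (Finset.ext fun W => ?_)
    rw [Finset.mem_filter, Finset.mem_map_equiv, Finset.mem_Iic]
    refine ⟨fun hh => ?_, fun hh => ⟨Finset.mem_univ _, ?_⟩⟩
    · by_contra hlt
      exact hh.2 (by simp only [x, if_neg hlt]; rfl)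
    · simp only [x, if_pos hh]
      exact fun h0 => hw W (Subtype.ext h0)
  have key : ∀ i j, ∀ g ∈ G, g (vec i) = vec j → i = j := by
    intro i j g hg hij
    set σ := permHom h ⟨g, hg⟩ with hσ
    have hval : ∀ W : S, g (x i (σ.symm W) : V) ∈ (W : Submodule (ZMod p) V) := fun W => by
      have h1 : moveSub g (σ.symm W : Submodule (ZMod p) V) = W := congrArg Subtype.val (σ.apply_symm_apply W)
      have h2 : g (x i (σ.symm W) : V) ∈ moveSub g (σ.symm W : Submodule (ZMod p) V) := ⟨_, (x i (σ.symm W)).2, rfl⟩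
      rwa [h1] at h2
    have heq : (fun W : S => (⟨g (x i (σ.symm W) : V), hval W⟩ : (W : Submodule (ZMod p) V))) = x j := by
      refine h.unique ?_
      show ∑ W : S, g (x i (σ.symm W) : V) = vec j
      rw [← hij, map_sum]
      exact Equiv.sum_comp σ.symm fun W => g (x i W : V)
    have hcard : (Finset.univ.filter fun W : S => (x j W : V) ≠ 0).card =
        (Finset.univ.filter fun W : S => (x i W : V) ≠ 0).card := by
      rw [← Finset.card_map σ.toEmbedding (s := Finset.univ.filter fun W : S => (x i W : V) ≠ 0)]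
      refine congrArg Finset.card (Finset.ext fun W => ?_)
      rw [Finset.mem_filter, Finset.mem_map_equiv, Finset.mem_filter,
        show (x j W : V) = g (x i (σ.symm W) : V) from (congrArg Subtype.val (congrFun heq W)).symm]
      exact ⟨fun hh => ⟨Finset.mem_univ _, fun h0 => hh.2 (by rw [h0, map_zero])⟩,
        fun hh => ⟨Finset.mem_univ _, fun h0 => hh.2 (g.map_eq_zero_iff.1 h0)⟩⟩
    rw [hsupp, hsupp] at hcard
    exact Fin.ext (by omega)
  have hinj : Function.Injective vec := fun i j hij => key i j 1 (one_mem G) hij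
  have h1 := ho (Finset.univ.image vec) (fun a ha => ?_) (fun a ha b hb g hg hab => ?_)
  · rwa [Finset.card_image_of_injective _ hinj, Finset.card_univ, Fintype.card_fin] at h1
  · obtain ⟨i, -, rfl⟩ := Finset.mem_image.1 ha
    intro h0
    have h1 := h.unique (x := x i) (y := fun _ => 0)
      (h0.trans (Finset.sum_eq_zero fun _ _ => rfl).symm)
    have h2 := hsupp i
    rw [Finset.filter_false_of_mem (fun W _ hh => hh (by rw [h1]; rfl))] at h2
    simp at h2
  · obtain ⟨i, -, rfl⟩ := Finset.mem_image.1 ha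
    obtain ⟨j, -, rfl⟩ := Finset.mem_image.1 hb
    rw [key i j g hg hab]

/-- **the class number plus the number of orbits** -/
theorem core [Nontrivial V] (G : Subgroup (V ≃ₗ[ZMod p] V)) (hs : Group.IsSolvable G) (hi : Irr G) (hp11 : 11 ≤ p)
    (hn : 2 ≤ finrank (ZMod p) V) (o : ℕ)
    (ho : ∀ T : Finset V, (∀ a ∈ T, a ≠ 0) → (∀ a ∈ T, ∀ b ∈ T, ∀ g ∈ G, g a = b → a = b) → T.card ≤ o)
    (hcount : p ^ finrank (ZMod p) V - 1 ≤ o * Nat.card G) :
    49 * p ≤ 60 * (Nat.card (ConjClasses G) + o) := by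
  classical
  have hp : p.Prime := Fact.out
  haveI := hs
  obtain ⟨S, hS, hmax, W₀, hW₀, -, hfield⟩ := exists_finest hi
  obtain ⟨htr, -, hcard⟩ := hS.props hi hW₀
  have hto := card_sys_le_orbits hS ho
  have ht1 : 1 ≤ S.card := Finset.card_pos.2 ⟨W₀, hW₀⟩
  rcases eq_or_lt_of_le ht1 with h1 | h2
  · -- one block
    have hall : AllField G := fun A hAn hA => by
      haveI := hAn
      rcases field_or_system hi A hA with h | ⟨T, hT, hT2⟩
      · exact h
      · exact absurd (hmax T hT) (by omega)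
    obtain ⟨A, F, s, e, hd⟩ := prim_structure G hs hall
    haveI := hd.normal_A
    by_cases htight : s = 1 ∧ finrank (ZMod p) V = 2 ∧ e = 2
    · obtain ⟨rfl, hn2, rfl⟩ := htight
      rw [hn2] at hd hcount
      exact tight_core hp hp11 A F hd hcount
    · refine count_core (t := 1) (r := finrank (ZMod p) V) hp hp11 le_rfl hd.one_le_s hd.one_le_e hd.dim
        (by rwa [one_mul]) (fun h1 h3 => ?_) (fun hh => htight ⟨hh.2.1, hh.2.2.1, hh.2.2.2⟩) A
        (Subgroup.centralizer (A : Set G)) (fun a ha g hg => (Subgroup.mem_centralizer_iff.1 hg a ha).symm)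
        ?_ ?_ (h1.trans_le hto) (by rwa [one_mul])
      · have := (hd.prime_dvd 3 Nat.prime_three (by rw [h3])).trans hd.card_dvd
        rwa [h1, pow_one] at this
      · rw [show pf 1 = 1 from rfl, one_mul, pow_one]
        exact hd.index_le
      · rw [show pf 1 = 1 from rfl, one_mul, pow_one, ← Subgroup.relIndex_mul_index (hd.le_F.trans hd.F_le), mul_comm s]
        exact Nat.mul_le_mul hd.relIndex_le hd.index_le
  · -- several blocks
    set φ := resHom (inv_stab G W₀) with hφ
    haveI : Nontrivial W₀ := Submodule.nontrivial_iff_ne_bot.2 (hS.ne_bot _ hW₀)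
    set X₁ := φ.range with hX₁
    have hsG : stab G W₀ ≤ G := fun g hg => hg.1
    haveI : Group.IsSolvable (stab G W₀) :=
      Group.isSolvable_of_isSolvable_injective (f := Subgroup.inclusion hsG) (Subgroup.inclusion_injective hsG)
    have hX₁s : Group.IsSolvable X₁ := Group.isSolvable_of_surjective φ.rangeRestrict_surjective
    obtain ⟨A₁, F₁, s, e, hd⟩ := prim_structure X₁ hX₁s hfield
    haveI := hd.normal_A
    let M₀ : Subgroup G := (stab G W₀).subgroupOf G
    let η : M₀ →* X₁ := φ.rangeRestrict.comp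
      { toFun := fun m => ⟨((m : G) : V ≃ₗ[ZMod p] V), m.2⟩
        map_one' := rfl
        map_mul' := fun _ _ => rfl }
    set K := (permHom hS).ker with hK
    have hKmem : ∀ k ∈ K, ∀ W ∈ S, moveSub (k : V ≃ₗ[ZMod p] V) W = W := fun k hk W hW =>
      congrArg Subtype.val (DFunLike.congr_fun (MonoidHom.mem_ker.1 hk) (⟨W, hW⟩ : S))
    have hKM : ∀ k ∈ K, k ∈ M₀ := fun k hk => ⟨k.2, hKmem k hk W₀ hW₀⟩
    choose c₀ hcG hc₀ using htr
    let c : S → G := fun W => ⟨c₀ W.1 W.2, hcG W.1 W.2⟩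
    have hKc : ∀ k ∈ K, ∀ g : G, g⁻¹ * k * g ∈ K := fun k hk g => by
      simpa using (inferInstance : K.Normal).conj_mem k hk g⁻¹
    let cj : ∀ W : S, K →* X₁ := fun W => η.comp
      { toFun := fun k => ⟨(c W)⁻¹ * (k : G) * c W, hKM _ (hKc _ k.2 _)⟩
        map_one' := Subtype.ext (by simp)
        map_mul' := fun k k' => Subtype.ext (by
          show (c W)⁻¹ * ((k : G) * (k' : G)) * c W = (c W)⁻¹ * (k : G) * c W * ((c W)⁻¹ * (k' : G) * c W)
          group) }
    let blk : Subgroup X₁ → Subgroup G := fun N => ((N.comap η).map M₀.subtype ⊓ K).normalCore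
    have hblk : ∀ N : Subgroup X₁, ∀ a ∈ blk N, ∃ hk : a ∈ K, ∀ W, cj W ⟨a, hk⟩ ∈ N := by
      intro N a ha
      refine ⟨(Subgroup.normalCore_le _ ha).2, fun W => ?_⟩
      have h1 : (c W)⁻¹ * a * c W ∈ blk N := by
        simpa using (Subgroup.normalCore_normal ((N.comap η).map M₀.subtype ⊓ K)).conj_mem a ha (c W)⁻¹
      obtain ⟨m, hm, hme⟩ := (Subgroup.normalCore_le _ h1).1
      have h2 : (⟨(c W)⁻¹ * a * c W, hKM _ (hKc a (Subgroup.normalCore_le _ ha).2 _)⟩ : M₀) = m :=
        Subtype.ext hme.symm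
      show η ⟨(c W)⁻¹ * a * c W, hKM _ (hKc a (Subgroup.normalCore_le _ ha).2 _)⟩ ∈ N
      rw [h2]
      exact hm
    have hidx : ∀ N : Subgroup X₁, N.Normal → (blk N).index ≤ pf S.card * N.index ^ S.card := by
      intro N hN
      let Φ : K →* (S → X₁ ⧸ N) := Pi.monoidHom fun W => (QuotientGroup.mk' N).comp (cj W)
      have hT : Φ.ker.map K.subtype ≤ blk N := by
        rintro _ ⟨k, hk, rfl⟩
        have hk' : ∀ W, cj W k ∈ N := fun W => (QuotientGroup.eq_one_iff _).1 (congrFun (MonoidHom.mem_ker.1 hk) W)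
        intro x
        show x * (k : G) * x⁻¹ ∈ _
        have hxK : x * (k : G) * x⁻¹ ∈ K := (inferInstance : K.Normal).conj_mem _ k.2 x
        refine ⟨⟨⟨x * (k : G) * x⁻¹, hKM _ hxK⟩, ?_, rfl⟩, hxK⟩
        set W : S := (permHom hS x⁻¹) ⟨W₀, hW₀⟩ with hW
        have hmc : moveSub (((x : G) : V ≃ₗ[ZMod p] V) * ((c W : G) : V ≃ₗ[ZMod p] V)) W₀ = W₀ := by
          rw [moveSub_mul, show moveSub ((c W : G) : V ≃ₗ[ZMod p] V) W₀ = (W : Submodule (ZMod p) V) from
            hc₀ W.1 W.2]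
          show moveSub (x : V ≃ₗ[ZMod p] V) (moveSub ((x⁻¹ : G) : V ≃ₗ[ZMod p] V) W₀) = W₀
          rw [← moveSub_mul, Subgroup.coe_inv, mul_inv_cancel, moveSub_one]
        let m : M₀ := ⟨x * c W, ⟨(x * c W).2, hmc⟩⟩
        have hconj : η m * cj W k * (η m)⁻¹ ∈ N := hN.conj_mem _ (hk' W) _
        show η _ ∈ N
        convert hconj using 1
        rw [show cj W k = η ⟨(c W)⁻¹ * (k : G) * c W, hKM _ (hKc _ k.2 _)⟩ from rfl, ← map_inv, ← map_mul,
          ← map_mul]
        refine congrArg η (Subtype.ext ?_)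
        show x * (k : G) * x⁻¹ = x * c W * ((c W)⁻¹ * (k : G) * c W) * (x * c W)⁻¹
        group
      have hTK : Φ.ker.map K.subtype ≤ K := Subgroup.map_subtype_le _
      refine (Nat.le_of_dvd (Nat.pos_of_ne_zero Subgroup.index_ne_zero_of_finite)
        (Subgroup.index_dvd_of_le hT)).trans ?_
      rw [← Subgroup.relIndex_mul_index hTK, mul_comm]
      refine Nat.mul_le_mul (permHom_index_le hs hS) ?_
      show ((Φ.ker.map K.subtype).subgroupOf K).index ≤ _
      rw [Subgroup.subgroupOf, Subgroup.comap_map_eq_self_of_injective K.subtype_injective, Subgroup.index_ker]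
      refine (Subgroup.card_le_card_group _).trans (le_of_eq ?_)
      rw [Nat.card_pi, Finset.prod_const, Finset.card_univ, Fintype.card_coe]
      rfl
    set C₁ := Subgroup.centralizer (A₁ : Set X₁) with hC₁
    haveI : C₁.Normal := Subgroup.normal_centralizer
    haveI : (blk A₁).Normal := inferInstanceAs ((A₁.comap η).map M₀.subtype ⊓ K).normalCore.Normal
    have hLcen : ∀ a ∈ blk A₁, ∀ g ∈ blk C₁, g * a = a * g := by
      intro a ha g hg
      obtain ⟨haK, haA⟩ := hblk A₁ a ha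
      obtain ⟨hgK, hgC⟩ := hblk C₁ g hg
      set u : K := ⟨g, hgK⟩⁻¹ * ⟨a, haK⟩⁻¹ * ⟨g, hgK⟩ * ⟨a, haK⟩ with hu
      have hu1 : ∀ W, cj W u = 1 := fun W => by
        rw [hu, map_mul, map_mul, map_mul, map_inv, map_inv, mul_assoc _ _ (cj W ⟨a, haK⟩),
          ← (Subgroup.mem_centralizer_iff.1 (hgC W) _ (haA W))]
        group
      have hu2 : ((u : G) : V ≃ₗ[ZMod p] V) = 1 := by
        refine hS.eq_one _ fun W hW w hw => ?_
        have hwm : ((c ⟨W, hW⟩ : G) : V ≃ₗ[ZMod p] V)⁻¹ w ∈ W₀ := mem_moveSub.1 (by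
          rw [show moveSub ((c ⟨W, hW⟩ : G) : V ≃ₗ[ZMod p] V) W₀ = W from hc₀ W hW]; exact hw)
        have h1 : φ ⟨_, hKM _ (hKc _ u.2 (c ⟨W, hW⟩))⟩ = 1 := congrArg Subtype.val (hu1 ⟨W, hW⟩)
        have h2 := resHom_eq_one (inv_stab G W₀) h1 hwm
        change (((c ⟨W, hW⟩ : G)⁻¹ * (u : G) * c ⟨W, hW⟩ : G) : V ≃ₗ[ZMod p] V)
          (((c ⟨W, hW⟩ : G) : V ≃ₗ[ZMod p] V)⁻¹ w) = ((c ⟨W, hW⟩ : G) : V ≃ₗ[ZMod p] V)⁻¹ w at h2
        rw [Subgroup.coe_mul, Subgroup.coe_mul, Subgroup.coe_inv, ← LinearEquiv.mul_apply, mul_assoc,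
          mul_inv_cancel, mul_one, LinearEquiv.mul_apply] at h2
        exact (((c ⟨W, hW⟩ : G) : V ≃ₗ[ZMod p] V)⁻¹).injective h2
      have hu3 : g⁻¹ * a⁻¹ * g * a = 1 := Subtype.ext hu2
      calc g * a = g * a * 1 := (mul_one _).symm
        _ = g * a * (g⁻¹ * a⁻¹ * g * a)⁻¹ := by rw [hu3, inv_one]
        _ = a * g := by
          rw [show (1 : G) = g⁻¹ * a⁻¹ * g * a from hu3.symm] at *
          group
    refine count_core (t := S.card) (r := finrank (ZMod p) W₀) hp hp11 ht1 hd.one_le_s hd.one_le_e hd.dim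
      (hcard ▸ hn) (fun h1 h3 => ?_) (fun hh => by omega) (blk A₁) (blk C₁) hLcen ?_ ?_ hto (by rwa [hcard])
    · have := (hd.prime_dvd 3 Nat.prime_three (by rw [h3])).trans hd.card_dvd
      rwa [h1, pow_one] at this
    · exact (hidx C₁ inferInstance).trans (Nat.mul_le_mul_left _ (Nat.pow_le_pow_left hd.index_le _))
    · refine (hidx A₁ hd.normal_A).trans (Nat.mul_le_mul_left _ (Nat.pow_le_pow_left ?_ _))
      rw [← Subgroup.relIndex_mul_index (hd.le_F.trans hd.F_le), mul_comm s]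
      exact Nat.mul_le_mul hd.relIndex_le hd.index_le

end CfsgLib.Coprime.ClassLower
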