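import Cfsg.Agent.Lib.Coprime.ClassLower.Blocks

/-!
# Solvable groups of order divisible by `p²` have at least `49 p / 60` classes
-/

set_option autoImplicit false
set_option linter.unusedSectionVars false
set_option linter.style.haveILetI false
set_option maxHeartbeats 1000000

namespace CfsgLib.Coprime.ClassLower

open Module CfsgLib.Char CfsgLib.Char.Berger CfsgLib.Coprime.ClassMod
open scoped commutatorElement

universe u v

/-- the primes below eleven -/
theorem small_bound {p k h o : ℕ} (hp : p.Prime) (hp7 : p < 11) (hk : 1 ≤ k) (hh : k ≤ 5 → h ≤ landau k)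
    (hcount : p ^ 2 - 1 ≤ o * h) : 49 * p ≤ 60 * (k + o) := by
  have ho : 1 ≤ o := by
    rcases Nat.eq_zero_or_pos o with rfl | h0
    · have := Nat.one_lt_pow two_ne_zero hp.one_lt
      omega
    · exact h0
  have hp' : p = 2 ∨ p = 3 ∨ p = 5 ∨ p = 7 := by
    rcases hp.eq_two_or_odd with h | h
    · exact Or.inl h
    · have h9 : p ≠ 9 := fun e => absurd (e ▸ hp) (by norm_num)
      have := hp.two_le
      omega
  rcases le_or_gt k 5 with h5 | h6
  · have h1 : p ^ 2 - 1 ≤ o * landau k := hcount.trans (Nat.mul_le_mul_left _ (hh h5))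
    rcases hp' with rfl | rfl | rfl | rfl <;> interval_cases k <;> simp only [landau, List.getD_cons_succ, List.getD_cons_zero] at h1 <;> omega
  · omega

/-- the bound for linear groups -/
theorem linear_bound {p : ℕ} [Fact p.Prime] {V : Type v} [AddCommGroup V] [Module (ZMod p) V] [Finite V]
    (G : Subgroup (V ≃ₗ[ZMod p] V)) (hs : Group.IsSolvable G) (hi : Irr G) (hn : 2 ≤ finrank (ZMod p) V) (o : ℕ)
    (ho : ∀ T : Finset V, (∀ a ∈ T, a ≠ 0) → (∀ a ∈ T, ∀ b ∈ T, ∀ g ∈ G, g a = b → a = b) → T.card ≤ o)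
    (hcount : p ^ finrank (ZMod p) V - 1 ≤ o * Nat.card G) :
    49 * p ≤ 60 * (Nat.card (ConjClasses G) + o) := by
  haveI : Nontrivial V := Module.nontrivial_of_finrank_pos (R := ZMod p) (by omega)
  rcases le_or_gt 11 p with h | h
  · exact core G hs hi h hn o ho hcount
  · haveI : Nonempty (ConjClasses G) := ⟨ConjClasses.mk 1⟩
    refine small_bound Fact.out h Nat.card_pos (fun h5 => card_le_landau G h5) (le_trans ?_ hcount)
    exact Nat.sub_le_sub_right (Nat.pow_le_pow_right (Fact.out : p.Prime).pos hn) 1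

variable {G : Type u} [Group G] [Finite G]

/-- the non-trivial classes in a normal subgroup -/
abbrev NzCls (V : Subgroup G) : Type u := {c : ClsIn V // c.1 ≠ ConjClasses.mk 1}

theorem nz_add (V : Subgroup G) [V.Normal] :
    Nat.card (ConjClasses (G ⧸ V)) + Nat.card (NzCls V) ≤ Nat.card (ConjClasses G) := by
  classical
  have h := classes_add V
  have h2 : Nat.card (NzCls V) + 1 ≤ Nat.card (ClsIn V) := by
    let f : NzCls V ⊕ Unit → ClsIn V := fun z =>
      z.elim (fun c => c.1) (fun _ => ⟨ConjClasses.mk 1, 1, one_mem V, rfl⟩)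
    have hf : Function.Injective f := by
      rintro (a | a) (b | b) hab
      · exact congrArg Sum.inl (Subtype.ext hab)
      · exact absurd (congrArg Subtype.val hab) a.2
      · exact absurd (congrArg Subtype.val hab).symm b.2
      · rfl
    have := Nat.card_le_card_of_injective f hf
    rwa [Nat.card_sum, Nat.card_unique (α := Unit)] at this
  omega

theorem card_sub_one_le (V L : Subgroup G) (hL : ∀ x ∈ V, ∀ g ∈ L, g * x = x * g) :
    Nat.card V - 1 ≤ Nat.card (NzCls V) * L.index := by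
  classical
  letI := Fintype.ofFinite {x : V // x ≠ 1}
  letI := Fintype.ofFinite (NzCls V)
  let q : {x : V // x ≠ 1} → NzCls V := fun x => ⟨⟨ConjClasses.mk (x.1 : G), x.1, x.1.2, rfl⟩, fun h =>
    x.2 (Subtype.ext (isConj_one_left.1 (ConjClasses.mk_eq_mk_iff_isConj.1 h)))⟩
  have h1 : Nat.card V - 1 = Nat.card {x : V // x ≠ 1} := by
    letI := Fintype.ofFinite V
    rw [Nat.card_eq_fintype_card, Nat.card_eq_fintype_card, Fintype.card_subtype_compl, Fintype.card_subtype_eq]
  rw [h1, Nat.card_eq_fintype_card, Nat.card_eq_fintype_card, ← Finset.card_univ, ← Finset.card_univ, mul_comm]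
  refine Finset.card_le_mul_card_image_of_maps_to (f := q) (fun _ _ => Finset.mem_univ _) L.index fun c _ => ?_
  obtain ⟨⟨_, x, hx, rfl⟩, hne⟩ := c
  refine le_trans ?_ (card_carrier_le L fun g hg => hL x hx g hg)
  rw [← Fintype.card_coe, ← Nat.card_eq_fintype_card]
  refine Nat.card_le_card_of_injective (fun y => ⟨(((y : {x : V // x ≠ 1}) : V) : G), ?_⟩) fun a b hab =>
    Subtype.ext (Subtype.ext (Subtype.ext (congrArg Subtype.val hab :)))
  rw [ConjClasses.mem_carrier_iff_mk_eq]
  exact congrArg (fun c : NzCls V => c.1.1) (Finset.mem_filter.1 y.2).2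

/-- a commutator centralises a normal subgroup of prime order -/
theorem commutator_comm_prime {X : Type*} [Group X] (N : Subgroup X) [N.Normal] [IsCyclic N] (g h : X) {x : X}
    (hx : x ∈ N) : ⁅g, h⁆ * x = x * ⁅g, h⁆ := by
  obtain ⟨a, ha⟩ := MonoidHom.map_cyclic (MulAut.conjNormal g : MulAut N).toMonoidHom
  obtain ⟨b, hb⟩ := MonoidHom.map_cyclic (MulAut.conjNormal h : MulAut N).toMonoidHom
  have hcomm : ∀ y : N, (MulAut.conjNormal (g * h) : MulAut N) y = MulAut.conjNormal (h * g) y := fun y => by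
    rw [map_mul, map_mul, MulAut.mul_apply, MulAut.mul_apply]
    have hA : ∀ z : N, (MulAut.conjNormal g : MulAut N) z = z ^ a := ha
    have hB : ∀ z : N, (MulAut.conjNormal h : MulAut N) z = z ^ b := hb
    rw [hA, hB, hA, hB, ← zpow_mul, ← zpow_mul, mul_comm]
  have h1 := congrArg Subtype.val (hcomm ⟨g⁻¹ * h⁻¹ * x * (g⁻¹ * h⁻¹)⁻¹, ‹N.Normal›.conj_mem x hx _⟩)
  simp only [MulAut.conjNormal_apply] at h1
  rw [commutatorElement_def]
  calc g * h * g⁻¹ * h⁻¹ * x = g * h * (g⁻¹ * h⁻¹ * x * (g⁻¹ * h⁻¹)⁻¹) * (g * h)⁻¹ * (g * h * g⁻¹ * h⁻¹) := by group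
    _ = h * g * (g⁻¹ * h⁻¹ * x * (g⁻¹ * h⁻¹)⁻¹) * (h * g)⁻¹ * (g * h * g⁻¹ * h⁻¹) := by rw [h1]
    _ = x * (g * h * g⁻¹ * h⁻¹) := by group

variable {p : ℕ} [Fact p.Prime]

/-- growing an abelian normal `p`-subgroup inside its centraliser -/
theorem exists_ext [Group.IsSolvable G] (hno : ∀ N : Subgroup G, N.Normal → N ≠ ⊥ → ¬ p ^ 2 ∣ N.index)
    (hp2 : p ^ 2 ∣ Nat.card G) (N : Subgroup G) [N.Normal] (hN : N ≠ ⊥) {a : ℕ} (ha : Nat.card N = p ^ a)
    (hab : ∀ x ∈ N, ∀ y ∈ N, x * y = y * x) (hne : Subgroup.centralizer (N : Set G) ≠ N) :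
    ∃ M : Subgroup G, M.Normal ∧ N ≤ M ∧ Nat.card M = p ^ (a + 1) ∧ (∀ x ∈ M, ∀ y ∈ M, x * y = y * x) := by
  classical
  have hp : p.Prime := Fact.out
  set π := QuotientGroup.mk' N with hπ
  have hπ1 : ∀ g, π g = 1 ↔ g ∈ N := fun g => QuotientGroup.eq_one_iff g
  set C := Subgroup.centralizer (N : Set G) with hC
  haveI : C.Normal := Subgroup.normal_centralizer
  have hNC : N ≤ C := fun x hx => Subgroup.mem_centralizer_iff.2 fun y hy => hab y hy x hx
  haveI : (C.map π).Normal := (inferInstance : C.Normal).map π (QuotientGroup.mk'_surjective N)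
  have hD : C.map π ≠ ⊥ := fun h => hne (le_antisymm (by
    have := (Subgroup.map_eq_bot_iff C).1 h
    rwa [hπ, QuotientGroup.ker_mk'] at this) hNC)
  obtain ⟨q, Mb, hq, hMn, hMD, hMne, hMc, hMexp⟩ := exists_normal_elementary_sub hD
  haveI := hMn
  haveI : Fact q.Prime := ⟨hq⟩
  set M := Mb.comap π with hM
  haveI hMn' : M.Normal := inferInstance
  have hNM : N ≤ M := fun x hx => Subgroup.mem_comap.2 (by rw [(hπ1 x).2 hx]; exact one_mem _)
  have hMC : M ≤ C := fun e he => by
    obtain ⟨c, hc, hce⟩ := hMD he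
    obtain ⟨z, hz, rfl⟩ := (QuotientGroup.mk'_eq_mk' N).1 hce
    exact mul_mem hc (hNC hz)
  obtain ⟨j, hj⟩ : ∃ j, Nat.card Mb = q ^ j := IsPGroup.iff_card.1
    fun x => ⟨1, Subtype.ext (by rw [pow_one, SubgroupClass.coe_pow, hMexp x x.2]; rfl)⟩
  have hMcard : Nat.card M = p ^ a * q ^ j := by
    rw [← hj, ← ha, ← (N.subgroupOf M).card_mul_index]
    congr 1
    · exact Nat.card_congr (Subgroup.subgroupOfEquivOfLe hNM).toEquiv
    · show N.relIndex M = _
      conv_lhs => rw [show N = π.ker from (QuotientGroup.ker_mk' N).symm]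
      rw [Subgroup.relIndex_ker, hM, Subgroup.map_comap_eq_self_of_surjective (QuotientGroup.mk'_surjective N)]
  have hj1 : 1 ≤ j := by
    by_contra h
    exact hMne (Subgroup.card_eq_one.1 (by rw [hj, show j = 0 by omega, pow_zero]))
  by_cases hqp : q = p
  · subst hqp
    have hj2 : j = 1 := by
      by_contra h
      refine hno N inferInstance hN ?_
      refine (pow_dvd_pow q (show 2 ≤ j by omega)).trans ?_
      rw [← hj]
      exact Subgroup.card_subgroup_dvd_card Mb
    subst hj2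
    refine ⟨M, inferInstance, hNM, by rw [hMcard, pow_one, ← pow_succ], fun x hx y hy => ?_⟩
    haveI : IsCyclic Mb := isCyclic_of_prime_card (p := q) (by rw [hj, pow_one])
    obtain ⟨g, hg⟩ := IsCyclic.exists_generator (α := Mb)
    obtain ⟨g0, hg0⟩ := QuotientGroup.mk'_surjective N (g : G ⧸ N)
    have hdec : ∀ z ∈ M, ∃ i : ℤ, ∃ n ∈ N, z = g0 ^ i * n := fun z hz => by
      obtain ⟨i, hi⟩ := Subgroup.mem_zpowers_iff.1 (hg ⟨π z, hz⟩)
      have h1 : π (g0 ^ i) = π z := by rw [map_zpow, hg0]; exact congrArg Subtype.val hi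
      obtain ⟨n, hn, hne⟩ := (QuotientGroup.mk'_eq_mk' N).1 h1
      exact ⟨i, n, hn, hne.symm⟩
    obtain ⟨i, n, hn, rfl⟩ := hdec x hx
    obtain ⟨i', n', hn', rfl⟩ := hdec y hy
    have hg0C : g0 ∈ C := hMC (Subgroup.mem_comap.2 (by rw [hg0]; exact g.2))
    have c1 : ∀ (i : ℤ), ∀ n ∈ N, Commute (g0 ^ i) n := fun i n hn =>
      (Commute.zpow_left (show Commute g0 n from (Subgroup.mem_centralizer_iff.1 hg0C n hn).symm) i)
    exact (((Commute.refl g0).zpow_zpow i i').mul_right (c1 i n' hn')).mul_left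
      ((c1 i' n hn).symm.mul_right (hab n hn n' hn')) |>.eq
  · -- a prime different from `p`
    exfalso
    have hcop : Nat.Coprime (p ^ a) q := ((Nat.coprime_primes hp hq).2 (Ne.symm hqp)).pow_left a
    have habM : ∀ x ∈ M, ∀ y ∈ M, x * y = y * x := by
      intro x hx y hy
      have hc : ⁅x, y⁆ ∈ N := by
        rw [← hπ1, map_commutatorElement, commutatorElement_eq_one_iff_mul_comm]
        exact hMc _ hx _ hy
      have hxq : x ^ q ∈ N := (hπ1 _).1 (by rw [map_pow]; exact hMexp _ hx)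
      have hcx : ⁅x, y⁆ * x = x * ⁅x, y⁆ := Subgroup.mem_centralizer_iff.1 (hMC hx) _ hc
      have hcy : ⁅x, y⁆ * y = y * ⁅x, y⁆ := Subgroup.mem_centralizer_iff.1 (hMC hy) _ hc
      have h1 : x * y * x⁻¹ = ⁅x, y⁆ * y := by rw [commutatorElement_def]; group
      have h2 : ⁅x, y⁆ ^ q = 1 := by
        have hpow : ∀ k : ℕ, x ^ k * y * (x ^ k)⁻¹ = ⁅x, y⁆ ^ k * y := by
          intro k
          induction k with
          | zero => simp
          | succ k ih =>
            calc x ^ (k + 1) * y * (x ^ (k + 1))⁻¹ = x * (x ^ k * y * (x ^ k)⁻¹) * x⁻¹ := by rw [pow_succ']; group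
              _ = x * ⁅x, y⁆ ^ k * y * x⁻¹ := by rw [ih]; group
              _ = ⁅x, y⁆ ^ k * (x * y * x⁻¹) := by
                rw [((show Commute ⁅x, y⁆ x from hcx).pow_left k).symm.eq]; group
              _ = ⁅x, y⁆ ^ (k + 1) * y := by rw [h1, pow_succ, mul_assoc]
        have h3 := hpow q
        rw [Subgroup.mem_centralizer_iff.1 (hMC hy) _ hxq, mul_inv_cancel_right] at h3
        exact mul_right_cancel (h3.symm.trans (one_mul y).symm)
      have h4 : ⁅x, y⁆ ^ (p ^ a) = 1 := by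
        rw [← ha]
        exact congrArg Subtype.val (pow_card_eq_one' (x := (⟨⁅x, y⁆, hc⟩ : N)))
      refine commutatorElement_eq_one_iff_mul_comm.1 (orderOf_eq_one_iff.1 (Nat.eq_one_of_dvd_coprimes hcop
        (orderOf_dvd_of_pow_eq_one h4) (orderOf_dvd_of_pow_eq_one h2)))
    let Q : Subgroup G :=
      { carrier := {x | x ∈ M ∧ x ^ q = 1}
        one_mem' := ⟨one_mem M, one_pow q⟩
        mul_mem' := fun {x y} hx hy => ⟨mul_mem hx.1 hy.1, by
          rw [(show Commute x y from habM x hx.1 y hy.1).mul_pow, hx.2, hy.2, one_mul]⟩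
        inv_mem' := fun {x} hx => ⟨inv_mem hx.1, by rw [inv_pow, hx.2, inv_one]⟩ }
    haveI : Q.Normal := ⟨fun x hx g => ⟨hMn'.conj_mem x hx.1 g, by rw [conj_pow, hx.2, mul_one, mul_inv_cancel]⟩⟩
    have hQ : Q ≠ ⊥ := fun h => by
      obtain ⟨x, hx⟩ := exists_prime_orderOf_dvd_card' (G := M) q
        (by rw [hMcard]; exact Dvd.dvd.mul_left (dvd_pow_self q (by omega)) _)
      have hx1 : (x : G) ∈ Q := ⟨x.2, by rw [← SubgroupClass.coe_pow, ← hx, pow_orderOf_eq_one]; rfl⟩
      rw [h, Subgroup.mem_bot] at hx1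
      rw [show x = 1 from Subtype.ext hx1, orderOf_one] at hx
      exact hq.ne_one hx.symm
    obtain ⟨i, hi⟩ : ∃ i, Nat.card Q = q ^ i :=
      IsPGroup.iff_card.1 fun x => ⟨1, Subtype.ext (by rw [pow_one, SubgroupClass.coe_pow]; exact x.2.2)⟩
    refine hno Q inferInstance hQ ?_
    have hcop2 : Nat.Coprime (p ^ 2) (q ^ i) := Nat.Coprime.pow _ _ ((Nat.coprime_primes hp hq).2 (Ne.symm hqp))
    refine hcop2.dvd_of_dvd_mul_left ?_
    rw [← hi, Q.card_mul_index]
    exact hp2

/-- a non-split step is impossible -/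
theorem no_ext (hno : ∀ N : Subgroup G, N.Normal → N ≠ ⊥ → ¬ p ^ 2 ∣ N.index) {n : ℕ} (hn : 2 ≤ n)
    (V M : Subgroup G) [V.Normal] [M.Normal] (hV : Nat.card V = p ^ n) (hVM : V ≤ M)
    (hM : Nat.card M = p ^ (n + 1)) (hab : ∀ x ∈ M, ∀ y ∈ M, x * y = y * x) (hexpV : ∀ x ∈ V, x ^ p = 1) : False := by
  classical
  have hp : p.Prime := Fact.out
  have hsmall : ∀ R : Subgroup G, R.Normal → R ≤ M → Nat.card R ≤ p → R = ⊥ := by
    intro R hR hRM hRp
    by_contra hne
    obtain ⟨i, -, hi⟩ := (Nat.dvd_prime_pow hp).1 (hM ▸ Subgroup.card_dvd_of_le hRM)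
    have hi1 : i ≤ 1 := by
      by_contra h
      have h2 : p ^ 1 < p ^ i := Nat.pow_lt_pow_right hp.one_lt (by omega)
      rw [pow_one, ← hi] at h2
      omega
    refine hno R hR hne ?_
    have hd : p ^ (n + 1) ∣ Nat.card R * R.index := by rw [R.card_mul_index, ← hM]; exact M.card_subgroup_dvd_card
    rw [hi] at hd
    refine Nat.dvd_of_mul_dvd_mul_left (pow_pos hp.pos i) (dvd_trans ?_ hd)
    rw [← pow_add]
    exact pow_dvd_pow p (by omega)
  letI : CommGroup M := { (inferInstance : Group M) with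
    mul_comm := fun x y => Subtype.ext (hab _ x.2 _ y.2) }
  set VM := V.subgroupOf M with hVMd
  have hVMc : Nat.card VM = p ^ n := by rw [hVMd, Nat.card_congr (Subgroup.subgroupOfEquivOfLe hVM).toEquiv, hV]
  have hidx : VM.index = p := by
    have h := VM.card_mul_index
    rw [hVMc, hM, pow_succ] at h
    exact Nat.eq_of_mul_eq_mul_left (pow_pos hp.pos n) h
  -- exponent `p`
  let φ : M →* G := M.subtype.comp (powMonoidHom p)
  have hker : VM ≤ φ.ker := fun x hx => by
    show ((x ^ p : M) : G) = 1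
    rw [SubgroupClass.coe_pow]; exact hexpV _ hx
  haveI : φ.range.Normal := ⟨by
    rintro _ ⟨x, rfl⟩ g
    refine ⟨⟨g * x * g⁻¹, ‹M.Normal›.conj_mem _ x.2 g⟩, ?_⟩
    show ((⟨g * x * g⁻¹, _⟩ : M) : G) ^ p = g * ((x : G) ^ p) * g⁻¹
    exact conj_pow⟩
  have hexp : ∀ x : M, x ^ p = 1 := by
    have h := hsmall φ.range inferInstance (by rintro _ ⟨x, rfl⟩; exact (x ^ p : M).2) (by
      rw [← Subgroup.index_ker]
      exact (Nat.le_of_dvd (hidx ▸ hp.pos) (Subgroup.index_dvd_of_le hker)).trans_eq hidx)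
    intro x
    refine Subtype.ext ?_
    have hx : φ x ∈ φ.range := ⟨x, rfl⟩
    rw [h, Subgroup.mem_bot] at hx
    exact hx
  -- a projection
  obtain ⟨x₀, hx₀⟩ : ∃ x : M, x ∉ VM := by
    by_contra! h
    have : VM = ⊤ := eq_top_iff.2 fun x _ => h x
    rw [this, Subgroup.index_top] at hidx
    exact hp.ne_one hidx.symm
  set Z := Subgroup.zpowers x₀ with hZ
  have hZc : Nat.card Z = p := by
    rw [hZ, Nat.card_zpowers]
    exact orderOf_eq_prime (hexp _) fun h => hx₀ (h ▸ one_mem _)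
  have hdis : Disjoint VM Z := by
    refine Subgroup.disjoint_def.2 fun {y} hy hyZ => ?_
    obtain ⟨j, hj⟩ : ∃ j, Nat.card (VM ⊓ Z : Subgroup M) = j ∧ j ∣ p :=
      ⟨_, rfl, hZc ▸ Subgroup.card_dvd_of_le inf_le_right⟩
    rcases (Nat.dvd_prime hp).1 hj.2 with rfl | rfl
    · have h1 : y ∈ VM ⊓ Z := ⟨hy, hyZ⟩
      rwa [Subgroup.card_eq_one.1 hj.1, Subgroup.mem_bot] at h1
    · have h2 : VM ⊓ Z = Z := Subgroup.eq_of_le_of_card_ge inf_le_right (by rw [hZc, hj.1])
      have h3 : x₀ ∈ VM ⊓ Z := by rw [h2]; exact Subgroup.mem_zpowers x₀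
      exact absurd h3.1 hx₀
  let f : VM × Z →* M := VM.subtype.coprod Z.subtype
  have hf : Function.Bijective f := by
    refine (Nat.bijective_iff_injective_and_card f).2 ⟨(injective_iff_map_eq_one f).2 ?_, ?_⟩
    · rintro ⟨a, b⟩ h
      have h1 : (a : M) * (b : M) = 1 := h
      have ha : (a : M) = 1 := Subgroup.disjoint_def.1 hdis a.2 (by rw [eq_inv_of_mul_eq_one_left h1]; exact inv_mem b.2)
      rw [ha, one_mul] at h1
      exact Prod.ext (Subtype.ext ha) (Subtype.ext h1)
    · rw [Nat.card_prod, hVMc, hZc, hM, pow_succ]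
  let e := MulEquiv.ofBijective f hf
  let π₀ : M →* M := VM.subtype.comp ((MonoidHom.fst VM Z).comp e.symm.toMonoidHom)
  have hπ₀V : ∀ x, π₀ x ∈ VM := fun x => (e.symm x).1.2
  have hπ₀id : ∀ x ∈ VM, π₀ x = x := fun x hx => by
    have h1 : e.symm x = (⟨x, hx⟩, 1) := e.injective (by
      rw [e.apply_symm_apply]
      show x = (x : M) * ((1 : Z) : M)
      rw [OneMemClass.coe_one, mul_one])
    show ((e.symm x).1 : M) = x
    rw [h1]
  -- averaging over the group
  have hMk : M ≤ (MulAut.conjNormal : G →* MulAut M).ker := fun g hg => MonoidHom.mem_ker.2 (MulEquiv.ext fun x =>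
    Subtype.ext (by rw [MulAut.conjNormal_apply, hab g hg x x.2, mul_inv_cancel_right]; rfl))
  let cQ : G ⧸ M →* MulAut M := QuotientGroup.lift M MulAut.conjNormal hMk
  letI := Fintype.ofFinite (G ⧸ M)
  let P : M →* M := MonoidHom.mk' (fun x => ∏ q : G ⧸ M, cQ q (π₀ (cQ q⁻¹ x))) fun x y => by
    rw [← Finset.prod_mul_distrib]
    exact Finset.prod_congr rfl fun q _ => by rw [map_mul, map_mul, map_mul]
  have hcVM : ∀ q : G ⧸ M, ∀ x ∈ VM, cQ q x ∈ VM := fun q x hx => by
    obtain ⟨g, rfl⟩ := QuotientGroup.mk'_surjective M q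
    show g * (x : G) * g⁻¹ ∈ V
    exact ‹V.Normal›.conj_mem _ hx g
  have hPV : ∀ x, P x ∈ VM := fun x => Subgroup.prod_mem _ fun q _ => hcVM q _ (hπ₀V _)
  have hPid : ∀ x ∈ VM, P x = x ^ M.index := fun x hx => by
    show ∏ q : G ⧸ M, cQ q (π₀ (cQ q⁻¹ x)) = _
    rw [Finset.prod_congr rfl (g := fun _ => x) (fun q _ => by
      rw [hπ₀id _ (hcVM _ x hx), ← MulAut.mul_apply, ← map_mul, mul_inv_cancel, map_one]; rfl),
      Finset.prod_const, Finset.card_univ, ← Nat.card_eq_fintype_card]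
    rfl
  have hPeq : ∀ r x, P (cQ r x) = cQ r (P x) := fun r x => by
    show ∏ q : G ⧸ M, cQ q (π₀ (cQ q⁻¹ (cQ r x))) = cQ r (∏ q : G ⧸ M, cQ q (π₀ (cQ q⁻¹ x)))
    rw [map_prod, ← Equiv.prod_comp (Equiv.mulLeft r) (fun q => cQ q (π₀ (cQ q⁻¹ (cQ r x))))]
    refine Finset.prod_congr rfl fun q _ => ?_
    simp only [Equiv.coe_mulLeft, map_mul, mul_inv_rev, MulAut.mul_apply]
    rw [show cQ r⁻¹ (cQ r x) = x by rw [← MulAut.mul_apply, ← map_mul, inv_mul_cancel, map_one]; rfl]
  have hcop : Nat.Coprime p M.index := by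
    refine hp.coprime_iff_not_dvd.2 fun hd => hno V inferInstance (fun h => ?_) ?_
    · rw [h, Subgroup.card_bot] at hV
      exact (Nat.one_lt_pow (by omega) hp.one_lt).ne hV
    · rw [← Subgroup.relIndex_mul_index hVM, show V.relIndex M = p from hidx, sq]
      exact mul_dvd_mul_left p hd
  set R := P.ker.map M.subtype with hR
  haveI : R.Normal := ⟨by
    rintro _ ⟨x, hx, rfl⟩ g
    refine ⟨cQ (QuotientGroup.mk g) x, ?_, rfl⟩
    rw [SetLike.mem_coe, MonoidHom.mem_ker, hPeq, MonoidHom.mem_ker.1 hx, map_one]⟩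
  have hPker : Nat.card P.ker ≤ p := by
    refine le_trans ?_ hidx.le
    refine Nat.card_le_card_of_injective (fun x : P.ker => (QuotientGroup.mk (x : M) : M ⧸ VM)) fun a b hab' => ?_
    have hm : (a : M)⁻¹ * b ∈ VM := QuotientGroup.eq.1 hab'
    have hk : (a : M)⁻¹ * b ∈ P.ker := mul_mem (inv_mem a.2) b.2
    have h1 : ((a : M)⁻¹ * b) ^ M.index = 1 := by rw [← hPid _ hm]; exact MonoidHom.mem_ker.1 hk
    exact Subtype.ext (inv_mul_eq_one.1 (orderOf_eq_one_iff.1 (Nat.eq_one_of_dvd_coprimes hcop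
      (orderOf_dvd_of_pow_eq_one (hexp _)) (orderOf_dvd_of_pow_eq_one h1))))
  have hbot := hsmall R inferInstance (Subgroup.map_subtype_le _)
    (by rw [hR, Subgroup.card_map_of_injective M.subtype_injective]; exact hPker)
  have hPinj : Function.Injective P := by
    rw [← MonoidHom.ker_eq_bot_iff]
    exact (Subgroup.map_eq_bot_iff_of_injective _ M.subtype_injective).1 hbot
  have h1 : Nat.card M ≤ Nat.card VM := Nat.card_le_card_of_injective (fun x => (⟨P x, hPV x⟩ : VM))
    fun a b hab' => hPinj (congrArg Subtype.val hab')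
  rw [hM, hVMc] at h1
  exact absurd h1 (not_le.2 (Nat.pow_lt_pow_right hp.one_lt (by omega)))

/-- the normal subgroup of order `p²` -/
theorem case_one [Group.IsSolvable G] (hno : ∀ N : Subgroup G, N.Normal → N ≠ ⊥ → ¬ p ^ 2 ∣ N.index)
    (hp2 : p ^ 2 ∣ Nat.card G) (V : Subgroup G) [V.Normal] (hV : Nat.card V = p) :
    49 * p ≤ 60 * Nat.card (ConjClasses G) := by
  classical
  have hp : p.Prime := Fact.out
  haveI : IsCyclic V := isCyclic_of_prime_card hV
  have habV : ∀ x ∈ V, ∀ y ∈ V, x * y = y * x := fun x hx y hy =>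
    congrArg Subtype.val (IsMulCommutative.is_comm.comm (⟨x, hx⟩ : V) ⟨y, hy⟩)
  have hV0 : V ≠ ⊥ := fun h => by rw [h, Subgroup.card_bot] at hV; exact hp.ne_one hV.symm
  have hnoV : ¬ p ^ 2 ∣ V.index := hno V inferInstance hV0
  have hdiv : p ∣ V.index := by
    have h := hp2
    rw [← V.card_mul_index, hV, sq] at h
    exact Nat.dvd_of_mul_dvd_mul_left hp.pos h
  have hCne : Subgroup.centralizer (V : Set G) ≠ V := by
    intro hC
    -- the quotient embeds in the automorphisms of a group of order `p`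
    let cj : G →* MulAut V := MulAut.conjNormal
    have hker : cj.ker = V := by
      refine le_antisymm (fun g hg => ?_) (fun g hg => MonoidHom.mem_ker.2 (MulEquiv.ext fun x =>
        Subtype.ext (by rw [MulAut.conjNormal_apply, habV g hg x x.2, mul_inv_cancel_right]; rfl)))
      rw [← hC, Subgroup.mem_centralizer_iff]
      intro x hx
      have h1 : g * x * g⁻¹ = x := congrArg Subtype.val (DFunLike.congr_fun (MonoidHom.mem_ker.1 hg) (⟨x, hx⟩ : V))
      exact (mul_inv_eq_iff_eq_mul.1 h1).symm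
    have h1 : p ∣ Nat.card (MulAut V) := hdiv.trans (by
      conv_lhs => rw [← hker, Subgroup.index_ker]
      exact Subgroup.card_subgroup_dvd_card _)
    rw [IsCyclic.card_mulAut, hV, Nat.totient_prime hp] at h1
    exact absurd (Nat.le_of_dvd (Nat.sub_pos_of_lt hp.one_lt) h1) (not_le.2 (Nat.sub_lt hp.pos one_pos))
  obtain ⟨P, hPn, hVP, hPc, hPab⟩ := exists_ext hno hp2 V hV0 (a := 1) (by rw [hV, pow_one]) habV hCne
  haveI := hPn
  have hP0 : P ≠ ⊥ := fun h => by
    rw [h, Subgroup.card_bot] at hPc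
    exact (Nat.one_lt_pow two_ne_zero hp.one_lt).ne hPc
  have hpP : ¬ p ∣ P.index := by
    intro hd
    refine hnoV ?_
    rw [← Subgroup.relIndex_mul_index hVP, sq]
    refine mul_dvd_mul (dvd_of_eq ?_) hd
    have h := (V.subgroupOf P).card_mul_index
    rw [hPc, Nat.card_congr (Subgroup.subgroupOfEquivOfLe hVP).toEquiv, hV, show (1 + 1) = 2 from rfl, sq] at h
    exact (Nat.eq_of_mul_eq_mul_left hp.pos h).symm
  have hCP : Subgroup.centralizer (P : Set G) = P := by
    by_contra hne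
    obtain ⟨M, hMn, hPM, hMc, -⟩ := exists_ext hno hp2 P hP0 (a := 2) hPc hPab hne
    refine hpP ?_
    have h := (P.subgroupOf M).card_mul_index
    rw [hMc, Nat.card_congr (Subgroup.subgroupOfEquivOfLe hPM).toEquiv, hPc, pow_succ p 2] at h
    rw [← Subgroup.relIndex_mul_index hPM]
    exact Dvd.dvd.mul_right (dvd_of_eq (Nat.eq_of_mul_eq_mul_left (pow_pos hp.pos 2) h).symm) _
  -- the quotient is abelian
  set π := QuotientGroup.mk' V with hπ
  haveI : (P.map π).Normal := hPn.map π (QuotientGroup.mk'_surjective V)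
  haveI : IsCyclic (P.map π) := by
    refine isCyclic_of_prime_card (p := p) ?_
    rw [← Subgroup.relIndex_ker, hπ, QuotientGroup.ker_mk']
    have h := (V.subgroupOf P).card_mul_index
    rw [hPc, Nat.card_congr (Subgroup.subgroupOfEquivOfLe hVP).toEquiv, hV, show (1 + 1) = 2 from rfl, sq] at h
    exact Nat.eq_of_mul_eq_mul_left hp.pos h
  have hcomm : ∀ g h : G, ⁅g, h⁆ ∈ P := by
    intro g h
    rw [← hCP, Subgroup.mem_centralizer_iff]
    intro x hx
    set c := ⁅g, h⁆ with hc
    set y := ⁅c, x⁆ with hy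
    have hyV : y ∈ V := by
      refine (QuotientGroup.eq_one_iff y).1 ?_
      show π y = 1
      rw [hy, map_commutatorElement, commutatorElement_eq_one_iff_mul_comm, hc, map_commutatorElement]
      exact commutator_comm_prime (P.map π) _ _ ⟨x, hx, rfl⟩
    have hcy : c * y = y * c := commutator_comm_prime V g h hyV
    have hpow : ∀ k : ℕ, c ^ k * x * (c ^ k)⁻¹ = y ^ k * x := by
      intro k
      induction k with
      | zero => simp
      | succ k ih =>
        calc c ^ (k + 1) * x * (c ^ (k + 1))⁻¹ = c * (c ^ k * x * (c ^ k)⁻¹) * c⁻¹ := by rw [pow_succ']; group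
          _ = c * y ^ k * x * c⁻¹ := by rw [ih]; group
          _ = y ^ k * (c * x * c⁻¹) := by rw [((show Commute c y from hcy).pow_right k).eq]; group
          _ = y ^ k * (y * x) := by
            rw [show c * x * c⁻¹ = y * x by rw [hy, commutatorElement_def, inv_mul_cancel_right]]
          _ = y ^ (k + 1) * x := by rw [pow_succ, mul_assoc]
    have h1 := hpow P.index
    rw [hPab _ (P.pow_index_mem c) x hx, mul_inv_cancel_right] at h1
    have h2 : y ^ P.index = 1 := mul_right_cancel (h1.symm.trans (one_mul x).symm)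
    have h3 : y ^ p = 1 := by
      rw [← hV]; exact congrArg Subtype.val (pow_card_eq_one' (x := (⟨y, hyV⟩ : V)))
    have h4 : y = 1 := orderOf_eq_one_iff.1 (Nat.eq_one_of_dvd_coprimes (hp.coprime_iff_not_dvd.2 hpP)
      (orderOf_dvd_of_pow_eq_one h3) (orderOf_dvd_of_pow_eq_one h2))
    exact (commutatorElement_eq_one_iff_mul_comm.1 h4).symm
  have habQ : ∀ a b : G ⧸ P, a * b = b * a := fun a b => by
    obtain ⟨g, rfl⟩ := QuotientGroup.mk'_surjective P a
    obtain ⟨h, rfl⟩ := QuotientGroup.mk'_surjective P b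
    rw [← commutatorElement_eq_one_iff_mul_comm, ← map_commutatorElement]
    exact (QuotientGroup.eq_one_iff _).2 (hcomm g h)
  have hk : P.index ≤ Nat.card (ConjClasses (G ⧸ P)) := by
    refine Nat.card_le_card_of_injective (ConjClasses.mk : G ⧸ P → ConjClasses (G ⧸ P)) fun a b hab => ?_
    obtain ⟨c, hc⟩ := isConj_iff.1 (ConjClasses.mk_eq_mk_iff_isConj.1 hab)
    rw [← hc, habQ c a, mul_inv_cancel_right]
  have h1 := nz_add P
  have h2 := card_sub_one_le P P fun x hx g hg => hPab g hg x hx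
  rw [hPc] at h2
  set o := Nat.card (NzCls P)
  set m := P.index
  have h3 : 4 * (m * o) ≤ (m + o) ^ 2 := by rw [← mul_assoc]; exact four_mul_le_pow_two_add _ _
  have hp4 : 4 ≤ p ^ 2 := Nat.pow_le_pow_left hp.two_le 2
  have h4 : (49 * p) ^ 2 ≤ (60 * (m + o)) ^ 2 := by
    rw [show (49 * p) ^ 2 = 2401 * p ^ 2 by ring, show (60 * (m + o)) ^ 2 = 3600 * (m + o) ^ 2 by ring]
    rw [show (1 + 1) = 2 from rfl, mul_comm o m] at h2
    omega
  have h5 := (Nat.pow_le_pow_iff_left (show (2 : ℕ) ≠ 0 by norm_num)).1 h4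
  omega

/-- the faithful irreducible action -/
theorem case_many [Group.IsSolvable G] (V : Subgroup G) [V.Normal] {n : ℕ} (hn : 2 ≤ n) (hV : Nat.card V = p ^ n)
    (hexp : ∀ x ∈ V, x ^ p = 1) (habV : ∀ x ∈ V, ∀ y ∈ V, x * y = y * x)
    (hmin : ∀ U : Subgroup G, U.Normal → U ≤ V → U = ⊥ ∨ U = V) (hC : Subgroup.centralizer (V : Set G) = V) :
    49 * p ≤ 60 * Nat.card (ConjClasses G) := by
  classical
  letI : CommGroup V := { (inferInstance : Group V) with mul_comm := fun x y => Subtype.ext (habV _ x.2 _ y.2) }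
  have hexp' : ∀ x : V, x ^ p = 1 := fun x => Subtype.ext (hexp _ x.2)
  letI : Module (ZMod p) (Additive V) :=
    AddCommGroup.zmodModule (n := p) (fun a : Additive V => congrArg Additive.ofMul (hexp' a.toMul))
  haveI : Finite (Additive V) := Finite.of_equiv V Additive.ofMul
  let L : G →* (Additive V ≃ₗ[ZMod p] Additive V) := (toLin p V).comp (MulAut.conjNormal : G →* MulAut V)
  haveI := finite_gl (p := p) (V := Additive V)
  have hL : ∀ (g : G) (x : V), ((Additive.toMul (L g (Additive.ofMul x)) : V) : G) = g * x * g⁻¹ := fun g x => rfl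
  have hker : L.ker = V := by
    refine le_antisymm (fun g hg => ?_) (fun g hg => MonoidHom.mem_ker.2 (LinearEquiv.ext fun w => ?_))
    · rw [← hC, Subgroup.mem_centralizer_iff]
      intro x hx
      have h1 : g * x * g⁻¹ = x := by
        rw [← hL g ⟨x, hx⟩, MonoidHom.mem_ker.1 hg]; rfl
      exact (mul_inv_eq_iff_eq_mul.1 h1).symm
    · refine Additive.toMul.injective (Subtype.ext ?_)
      show g * ((Additive.toMul w : V) : G) * g⁻¹ = _
      rw [habV g hg _ (Additive.toMul w).2, mul_inv_cancel_right]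
      rfl
  have hd : finrank (ZMod p) (Additive V) = n := by
    refine Nat.pow_right_injective (Fact.out : p.Prime).two_le ?_
    show p ^ finrank (ZMod p) (Additive V) = p ^ n
    rw [← hV, Nat.card_congr (Additive.ofMul (α := V)), Module.natCard_eq_pow_finrank (K := ZMod p) (V := Additive V),
      Nat.card_zmod]
  have hs : Group.IsSolvable L.range := Group.isSolvable_of_surjective L.rangeRestrict_surjective
  have hi : Irr L.range := by
    intro W hW
    let U : Subgroup G :=
      { carrier := {x | ∃ hx : x ∈ V, Additive.ofMul (⟨x, hx⟩ : V) ∈ W}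
        one_mem' := ⟨one_mem V, zero_mem W⟩
        mul_mem' := fun {a b} ha hb => ⟨mul_mem ha.1 hb.1, add_mem (s := W) ha.2 hb.2⟩
        inv_mem' := fun {a} ha => ⟨inv_mem ha.1, neg_mem (s := W) ha.2⟩ }
    haveI : U.Normal := ⟨fun x hx g => ⟨‹V.Normal›.conj_mem x hx.1 g, hW (L g) ⟨g, rfl⟩ _ hx.2⟩⟩
    rcases hmin U inferInstance (fun x hx => hx.1) with h | h
    · refine Or.inl ((Submodule.eq_bot_iff W).2 fun w hw => ?_)
      have h1 : ((Additive.toMul w : V) : G) ∈ U := ⟨(Additive.toMul w).2, hw⟩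
      rw [h, Subgroup.mem_bot] at h1
      exact Additive.toMul.injective (Subtype.ext h1)
    · refine Or.inr (eq_top_iff.2 fun w _ => ?_)
      have h1 : ((Additive.toMul w : V) : G) ∈ U := h.symm ▸ (Additive.toMul w).2
      exact h1.2
  have hk : Nat.card (ConjClasses L.range) ≤ Nat.card (ConjClasses (G ⧸ V)) :=
    card_conjClasses_le_of_surjective
      ((QuotientGroup.quotientKerEquivRange L).toMonoidHom.comp (QuotientGroup.quotientMulEquivOfEq hker.symm).toMonoidHom)
      ((QuotientGroup.quotientKerEquivRange L).surjective.comp (QuotientGroup.quotientMulEquivOfEq hker.symm).surjective)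
  have hcardL : Nat.card L.range = V.index := by rw [← Subgroup.index_ker, hker]
  have h2 := card_sub_one_le V V fun x hx g hg => habV g hg x hx
  rw [hV, ← hcardL] at h2
  have h := linear_bound L.range hs hi (hd.symm ▸ hn) (Nat.card (NzCls V)) ?_ (by rwa [hd])
  · have h1 := nz_add V
    omega
  intro T hT0 hT
  let f : T → NzCls V := fun a => ⟨⟨ConjClasses.mk ((Additive.toMul (a : Additive V) : V) : G), _,
    (Additive.toMul (a : Additive V)).2, rfl⟩, fun h => hT0 a a.2 (Additive.toMul.injective (Subtype.ext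
      (isConj_one_left.1 (ConjClasses.mk_eq_mk_iff_isConj.1 h))))⟩
  have hf : Function.Injective f := fun a b hab => by
    obtain ⟨g, hg⟩ := isConj_iff.1 (ConjClasses.mk_eq_mk_iff_isConj.1 (congrArg (fun c : NzCls V => c.1.1) hab))
    exact Subtype.ext (hT a a.2 b b.2 (L g) ⟨g, rfl⟩ (Additive.toMul.injective (Subtype.ext hg)))
  have h3 := Nat.card_le_card_of_injective f hf
  rwa [Nat.card_eq_fintype_card, Fintype.card_coe] at h3

omit [Group G] [Finite G] in
/-- **the class number bound** -/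
theorem class_bound : ∀ (m : ℕ) (G : Type u) [Group G] [Finite G], Nat.card G = m → Group.IsSolvable G →
    p ^ 2 ∣ Nat.card G → 49 * p ≤ 60 * Nat.card (ConjClasses G) := by
  intro m
  induction m using Nat.strong_induction_on with
  | _ m ih =>
  intro G _ _ hm hs hp2
  classical
  haveI := hs
  have hp : p.Prime := Fact.out
  by_cases hno : ∀ N : Subgroup G, N.Normal → N ≠ ⊥ → ¬ p ^ 2 ∣ N.index
  swap
  · push Not at hno
    obtain ⟨N, hN, hN0, hd⟩ := hno
    haveI := hN
    have hlt : N.index < m := by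
      rw [← hm, ← N.card_mul_index]
      exact lt_mul_of_one_lt_left (Nat.pos_of_ne_zero Subgroup.index_ne_zero_of_finite) (N.one_lt_card_iff_ne_bot.2 hN0)
    refine (ih N.index hlt (G ⧸ N) rfl (Group.isSolvable_of_surjective (QuotientGroup.mk'_surjective N)) hd).trans ?_
    exact Nat.mul_le_mul_left _ (card_conjClasses_le_of_surjective (QuotientGroup.mk' N) (QuotientGroup.mk'_surjective N))
  haveI : Nontrivial G := Finite.one_lt_card_iff_nontrivial.1
    ((Nat.one_lt_pow two_ne_zero hp.one_lt).trans_le (Nat.le_of_dvd Nat.card_pos hp2))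
  obtain ⟨q, V, hq, hVn, -, hV0, hVab, hVexp, hVmin⟩ :=
    exists_minimal_normal_elementary_sub (D := (⊤ : Subgroup G)) top_ne_bot
  haveI := hVn
  haveI : Fact q.Prime := ⟨hq⟩
  obtain ⟨n, hn⟩ : ∃ n, Nat.card V = q ^ n := IsPGroup.iff_card.1
    fun x => ⟨1, Subtype.ext (by rw [pow_one, SubgroupClass.coe_pow, hVexp x x.2]; rfl)⟩
  have hqp : q = p := by
    by_contra hne
    refine hno V hVn hV0 ?_
    refine (Nat.Coprime.pow 2 n ((Nat.coprime_primes hp hq).2 (Ne.symm hne))).dvd_of_dvd_mul_left ?_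
    rw [← hn, V.card_mul_index]
    exact hp2
  subst hqp
  rcases Nat.lt_or_ge n 2 with hn2 | hn2
  · have hn1 : n = 1 := by
      by_contra h
      exact hV0 (Subgroup.card_eq_one.1 (by rw [hn, show n = 0 by omega, pow_zero]))
    exact case_one hno hp2 V (by rw [hn, hn1, pow_one])
  · have hC : Subgroup.centralizer (V : Set G) = V := by
      by_contra hne
      obtain ⟨M, hMn, hVM, hMc, hMab⟩ := exists_ext hno hp2 V hV0 hn hVab hne
      haveI := hMn
      exact no_ext hno hn2 V M hn hVM hMc hMab hVexp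
    exact case_many V hn2 hn hVexp hVab hVmin hC

end CfsgLib.Coprime.ClassLower
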